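import Cfsg.Agent.H554.BS.Rows
import Cfsg.Agent.H14.BSE6

/-!
# The rows `E₆` and `²E₆` of S4312 (helper554)
-/

set_option autoImplicit false
set_option linter.unusedSectionVars false

namespace Cfsg.Agent.H554.BS

open CoxeterSystem Cfsg Cfsg.Lie Cfsg.Lie.ChevalleyDatum
open Cfsg.Agent.ChevalleyStructure Cfsg.Agent.ChevalleyStructure.Elts Cfsg.Agent.ChevalleyStructure.CoxeterGeom
  Cfsg.Agent.ChevalleyStructure.CoxeterGeomTypes Cfsg.Agent.ChevalleyStructure.NPerm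
open Cfsg.Agent.Tits.Roots Cfsg.Agent.Tits.Core Cfsg.Agent.Nodes Cfsg.Agent.Nodes.Reps Cfsg.Agent.Nodes.BNOf
  Cfsg.Agent.Nodes.RGDChev Cfsg.Agent.Nodes.Bruhat Cfsg.Agent.Nodes.NormalForm
open Cfsg.Agent.KFacts.RgdField Cfsg.Agent.KFacts.RgdChevCoord
open Cfsg.Agent.BpExc Cfsg.Agent.BpExc.TorCent Cfsg.Agent.BpExc.TorChev Cfsg.Agent.BpExc.Tow
  Cfsg.Agent.BpExc.TowChev Cfsg.Agent.BpExc.Fr Cfsg.Agent.BpExc.Pair Cfsg.Agent.BpExc.LangFr Cfsg.Agent.GpExc.Field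
  Cfsg.Agent.BpExc.TorAll
open Cfsg.Agent.H469.Exc Cfsg.Agent.H469.Exc.SigFr
open Cfsg.Agent.Nodes.RGDFoldSL
open Cfsg.Agent.ChevalleyStructure.SL2Hom (up lo mem_closure_SL2)
open Cfsg.Agent.H167.EX Cfsg.Agent.H795.LangT Cfsg.Agent.H129.TorusChar Cfsg.Agent.H129.TorusUntw
open Cfsg.Agent.H553.ExtRed Cfsg.Agent.H988.CPi Cfsg.Agent.H795.Core Cfsg.Agent.H720.TwFr
open scoped commutatorElement Pointwise

universe u v w

/-- the conditions on the lattice automorphism -/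
structure SixG (g : (Fin 6 → ℤ) ≃+ (Fin 6 → ℤ)) : Prop where
  fix : ∀ s ∈ ME6, g (vec chevE6 6 s) = vec chevE6 6 s
  fs : ∀ s ∈ LE6, ∀ i : Fin 6, fs chevE6 6 s (g.symm (sr i)) = fs chevE6 6 s (sr i)
  inv : ∀ i : Fin 6, g.symm (g.symm (sr i)) = sr i
  invF : ∀ i : Fin 6, g.symm (rhoL chevE6 6 FE6 (g.symm (rhoL chevE6 6 FE6 (sr i)))) = sr i

theorem sixG_refl : SixG (AddEquiv.refl (Fin 6 → ℤ)) :=
  ⟨fun _ _ => rfl, fun _ _ _ => rfl, fun _ => rfl, cE6⟩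

theorem sixG_rho : SixG (permE rho6) := ⟨gME6, a6, c6', c6⟩

/-- the pairing as an additive map -/
def fsM (D : ChevalleyDatum) (l s : ℕ) : (Fin l → ℤ) →+ ℤ := AddMonoidHom.mk' (fs D l s) (fs_add s)

theorem fsM_apply (D : ChevalleyDatum) (l s : ℕ) (x : Fin l → ℤ) : fsM D l s x = fs D l s x := rfl

namespace SixG

variable {g : (Fin 6 → ℤ) ≃+ (Fin 6 → ℤ)} (h : SixG g)

include h

theorem a1 {s : ℕ} (hs : s ∈ LE6) (x : Fin 6 → ℤ) : Cfsg.Agent.H554.BS.fs chevE6 6 s (g.symm x) =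
    Cfsg.Agent.H554.BS.fs chevE6 6 s x :=
  addHom_ext (f := (fsM chevE6 6 s).comp g.symm.toAddMonoidHom) (g := fsM chevE6 6 s) (fun i => h.fs s hs i) x

omit h in
theorem a2 {s : ℕ} (hs : s ∈ LE6) (x : Fin 6 → ℤ) : Cfsg.Agent.H554.BS.fs chevE6 6 s (rhoL chevE6 6 FE6 x) =
    -Cfsg.Agent.H554.BS.fs chevE6 6 s x :=
  addHom_ext (f := (fsM chevE6 6 s).comp (rhoM chevE6 6 FE6)) (g := -fsM chevE6 6 s) (fun i => aE6 s hs i) x

theorem b1 {s : ℕ} (hs : s ∈ ME6) : g.symm (vec chevE6 6 s) = vec chevE6 6 s := by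
  rw [AddEquiv.symm_apply_eq, h.fix s hs]

theorem c1 (x : Fin 6 → ℤ) : g.symm (g.symm x) = x :=
  addHom_ext (f := g.symm.toAddMonoidHom.comp g.symm.toAddMonoidHom) (g := AddMonoidHom.id _) (fun i => h.inv i) x

theorem c2 (x : Fin 6 → ℤ) : g.symm (rhoL chevE6 6 FE6 (g.symm (rhoL chevE6 6 FE6 x))) = x :=
  addHom_ext (f := (g.symm.toAddMonoidHom.comp (rhoM chevE6 6 FE6)).comp (g.symm.toAddMonoidHom.comp (rhoM chevE6 6 FE6)))
    (g := AddMonoidHom.id _) (fun i => h.invF i) x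

end SixG

/-- the list of the reflections -/
def LL (ε : ℤ) : List ℕ := if ε = 1 then [] else FE6

theorem LL_sub (ε : ℤ) : ∀ s ∈ LL ε, s ∈ ME6 := by
  intro s hs
  unfold LL at hs
  split_ifs at hs with h
  · exact absurd hs List.not_mem_nil
  · rw [ME6_eq]
    exact List.mem_append_right _ hs

theorem LE6_sub : ∀ s ∈ LE6, s ∈ ME6 := fun s hs => by
  rw [ME6_eq]
  exact List.mem_append_left _ hs

section
variable {g : (Fin 6 → ℤ) ≃+ (Fin 6 → ℤ)} (h : SixG g) {ε : ℤ} (hε : ε = 1 ∨ ε = -1)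

include h hε

theorem ll_a {s : ℕ} (hs : s ∈ LE6) (x : Fin 6 → ℤ) :
    fs chevE6 6 s (g.symm (rhoL chevE6 6 (LL ε) x)) = ε * fs chevE6 6 s x := by
  rw [h.a1 hs]
  rcases hε with rfl | rfl
  · rw [one_mul]; rfl
  · rw [neg_mul, one_mul]
    exact SixG.a2 hs x

theorem ll_b {s : ℕ} (hs : s ∈ ME6) :
    g.symm (rhoL chevE6 6 (LL ε) (vec chevE6 6 s)) = ε • vec chevE6 6 s := by
  rcases hε with rfl | rfl
  · rw [one_smul]
    exact h.b1 hs
  · have h1 : rhoL chevE6 6 (LL (-1)) (vec chevE6 6 s) = -vec chevE6 6 s := bE6 s hs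
    rw [h1, map_neg, h.b1 hs, neg_smul, one_smul]

theorem ll_c (x : Fin 6 → ℤ) :
    g.symm (rhoL chevE6 6 (LL ε) (g.symm (rhoL chevE6 6 (LL ε) x))) = x := by
  rcases hε with rfl | rfl
  · exact h.c1 x
  · exact h.c2 x

end

/-- **The rows of type `E₆`.** -/
theorem row_six {k : Type u} [Field k] [IsAlgClosed k] (hk : LocFin k) {p e : ℕ} [hpp : Fact p.Prime] [CharP k p]
    {G : Type w} [Group G] {ι : G →* ↥(chevE6.group k)} {σ : MulAut ↥(chevE6.group k)}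
    {g : (Fin 6 → ℤ) ≃+ (Fin 6 → ℤ)} (hg : SixG g)
    (hset : ∀ (q : ℕ) [Fact q.Prime], q ≠ 3 → Setup hp6 q p e ι σ g)
    {π : Set ℕ} (hpπ : p ∉ π) {S : Type v} [Group S] [Finite S] [IsSimpleGroup S] (hna : ¬ IsMulCommutative S)
    (hE : IsEPiGroup π S) (h2π : 2 ∈ π) (h3π : 3 ∉ π) (hS : Nonempty (S ≃* G)) : Rw π S := by
  have := Fact.mk Nat.prime_two
  have set2 := hset 2 (by norm_num)
  have hp2 : p ≠ 2 := fun h => hpπ (h ▸ h2π)
  have h2 : (2 : k) ≠ 0 := by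
    intro h
    have h1 : p ∣ 2 := (CharP.cast_eq_zero_iff k p 2).1 (by exact_mod_cast h)
    exact hp2 ((Nat.prime_dvd_prime_iff_eq hpp.out Nat.prime_two).1 h1)
  obtain ⟨i, hi⟩ := exists_i k
  have hi0 := i_ne_zero hi
  have hodd : Odd (p ^ e) := (hpp.out.eq_two_or_odd'.resolve_left hp2).pow
  obtain ⟨ε, hε, h4⟩ := exists_eps hodd
  have hε' : -ε = 1 ∨ -ε = -1 := by rcases hε with rfl | rfl <;> norm_num
  have hL1 : ∀ s ∈ ME6, s < chevE6.nroots ∧ g (vec chevE6 6 s) = vec chevE6 6 s := fun s hs => ⟨ltME6 s hs, hg.fix s hs⟩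
  obtain ⟨z, -, hiff, hz⟩ := exists_twist_Z hp6 hk set2.e_pos set2.frob set2.fr (LL_sub ε) hL1
  obtain ⟨z', -, hiff', hz'⟩ := exists_twist_Z hp6 hk set2.e_pos set2.frob set2.fr (LL_sub (-ε)) hL1
  obtain ⟨φ⟩ := hS
  let f : S →* ↥(chevE6.group k) := ι.comp φ.toMonoidHom
  have hf : Function.Injective f := set2.inj.comp φ.injective
  have hfφ : ∀ y, f (φ.symm y) = ι y := fun y => by
    show ι (φ (φ.symm y)) = _
    rw [MulEquiv.apply_symm_apply]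
  obtain ⟨H, hH⟩ := hE
  right
  refine good_row hna h2π h3π hpπ hpp.out (TTab hp6) (X := {x : ↥(chevE6.group k) | ∃ d ∈ LE6, x = xd hp6 i d}) ?_ ?_
    (one_E6 hp6 h2 p hk (hAlg_of_locFin hk p) hi) f hf z ?_ ?_ H hH
  · rintro _ ⟨d, _, rfl⟩
    exact xd_mem hp6 hi0 d
  · rintro _ ⟨d, _, rfl⟩
    exact xd_four hp6 hi d
  · rintro _ ⟨s, hs, rfl⟩
    have hlt := ltE6 s hs
    have h1 := fixed_ph hp6 hk hiff (eps_sq hε) hlt p (fun x => ll_a hg hε hs x) (n := 4) (by exact_mod_cast h4)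
      hi0 (i_four hi)
    obtain ⟨y, hy⟩ := set2.p_mem _ h1 ⟨2, by
      rw [show (2 : ℕ) ^ 2 = 4 by norm_num, conj_pow, ← map_pow, hS_pow hi0, i_four hi, hS_one, map_one]; group⟩
    refine ⟨φ.symm y, ?_⟩
    rw [xd_lt hp6 hlt, hfφ, hy]
  · intro N hN _ hNT hNp
    refine hR_six hp6 hf (σ := σ) (Q := p ^ e) (z := z) (R := fun x => g.symm (rhoL chevE6 6 (LL ε) x))
      (fun x => set2.fix _) hiff (hk := hk) h2 (by decide) (eps_sq hε) ?_ (z' := z')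
      (R' := fun x => g.symm (rhoL chevE6 6 (LL (-ε)) x)) hiff' (L0 := LE6) (L1 := ME6) ltME6
      (fun s hs x => ll_a hg hε hs x) (fun s hs x => ll_a hg hε' hs x) (fun s hs => ll_b hg hε hs)
      (fun x => ll_c hg hε x) hz hz' (Om := fun q => H14.BSE6.Om6 hp6 k q) (fun q => le_rfl)
      (fun q hq h5 hqp => H14.BSE6.omOK_E6 hp6 hk hq h5 hqp) hN hNT hNp
    intro q hqp h5 _ y hy hyq
    have := Fact.mk hqp
    obtain ⟨x, hx⟩ := (hset q (by omega)).p_mem y hy ⟨1, by rw [pow_one]; exact hyq⟩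
    exact ⟨φ.symm x, by rw [hfφ, hx]⟩

variable {F : Type} [Field F] [Fintype F] {p : ℕ} {π : Set ℕ} {S : Type v} [Group S] [Finite S] [IsSimpleGroup S]

theorem row_e6 (hna : ¬ IsMulCommutative S) (hE : IsEPiGroup π S) (h2π : 2 ∈ π) (h3π : 3 ∉ π) (_hpp : p.Prime)
    (hpπ : p ∉ π) [hFp : CharP F p] (hS : Nonempty (S ≃* chevE6.group F)) : Rw π S := by
  obtain ⟨p', e, hp', hpF', hpk', he, hq, hk⟩ := exists_closure (F := F) rfl
  have hpe : p' = p := CharP.eq F hpF' hFp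
  subst hpe
  exact row_six hk (ι := emb hp6.inList (algebraMap F (AlgebraicClosure F))) sixG_refl (fun q _ hq3 =>
    Cfsg.Agent.H795.Untw.setup_untw hp6 hk _ he hq invC_E6 (by norm_num) (Or.inr Nat.prime_three) (p := q)
      (fun h => hq3 ((Nat.prime_dvd_prime_iff_eq Fact.out Nat.prime_three).1 h))) hpπ hna hE h2π h3π hS

theorem row_tw (hna : ¬ IsMulCommutative S) (hE : IsEPiGroup π S) (h2π : 2 ∈ π) (h3π : 3 ∉ π) (_hpp : p.Prime)
    (hpπ : p ∉ π) [hFp : CharP F p] {q : ℕ} (hq : IsPrimePow q) (hK : Fintype.card F = q ^ 2)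
    (hS : Nonempty (S ≃* twistedE6 F q)) : Rw π S := by
  obtain ⟨r, n, hr, hrF, hrk, hn0, hn, hk⟩ := Cfsg.Agent.H795.Tw.exists_closure_q (K := F) two_ne_zero hq hK
  have hpe : r = p := CharP.eq F hrF hFp
  subst hpe
  exact row_six hk (ι := em6 q (algebraMap F (AlgebraicClosure F))) sixG_rho (fun q' _ hq3 =>
    Cfsg.Agent.H795.Tw.setup_six _ r hk hn0 hn hK hq3) hpπ hna hE h2π h3π hS

end Cfsg.Agent.H554.BS
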