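import Cfsg.Agent.H554.BS.RowU
import Cfsg.Agent.H167.EX.OneFin
import Cfsg.Agent.H14.CommRange
import Cfsg.Agent.H566.OmFE
import Cfsg.Agent.BpExc.RowsUntw

/-!
# The rows `F₄`, `E₇`, `E₈` of S4312 (helper554)
-/

set_option autoImplicit false
set_option linter.unusedSectionVars false

namespace Cfsg.Agent.H554.BS

open CoxeterSystem Cfsg Cfsg.Lie Cfsg.Lie.ChevalleyDatum
open Cfsg.Agent.ChevalleyStructure Cfsg.Agent.ChevalleyStructure.Elts Cfsg.Agent.ChevalleyStructure.CoxeterGeom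
  Cfsg.Agent.ChevalleyStructure.CoxeterGeomTypes Cfsg.Agent.ChevalleyStructure.NPerm
open Cfsg.Agent.Tits.Roots Cfsg.Agent.Tits.Core Cfsg.Agent.Nodes Cfsg.Agent.Nodes.Reps Cfsg.Agent.Nodes.BNOf
  Cfsg.Agent.Nodes.RGDChev Cfsg.Agent.Nodes.Bruhat Cfsg.Agent.Nodes.NormalForm
open Cfsg.Agent.KFacts.RgdField Cfsg.Agent.KFacts.RgdChevCoord
open Cfsg.Agent.BpExc Cfsg.Agent.BpExc.TorCent Cfsg.Agent.BpExc.TorChev Cfsg.Agent.BpExc.Tow
  Cfsg.Agent.BpExc.TowChev Cfsg.Agent.BpExc.Fr Cfsg.Agent.BpExc.Pair Cfsg.Agent.BpExc.LangFr Cfsg.Agent.GpExc.Field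
  Cfsg.Agent.BpExc.TorAll
open Cfsg.Agent.H469.Exc Cfsg.Agent.H469.Exc.SigFr
open Cfsg.Agent.Nodes.RGDFoldSL
open Cfsg.Agent.ChevalleyStructure.SL2Hom (up lo mem_closure_SL2)
open Cfsg.Agent.H167.EX Cfsg.Agent.H795.LangT Cfsg.Agent.H129.TorusChar Cfsg.Agent.H129.TorusUntw
open Cfsg.Agent.H553.ExtRed Cfsg.Agent.H988.CPi Cfsg.Agent.H566.OmFE
open scoped commutatorElement Pointwise

universe u v

theorem hAlg_of_locFin {k : Type u} [Field k] (hk : LocFin k) (p : ℕ) [Fact p.Prime] [CharP k p] : HAlg p k := by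
  intro a
  obtain ⟨E, hE, ha⟩ := hk {a} (Set.finite_singleton a)
  have haE : a ∈ E := ha rfl
  have := charP_lev p E
  have := Fintype.ofFinite ↥E
  obtain ⟨n, _, h2⟩ := FiniteField.card ↥E p
  refine ⟨n, n.pos, ?_⟩
  have h3 := FiniteField.pow_card (⟨a, haE⟩ : ↥E)
  rw [h2] at h3
  exact congrArg Subtype.val h3

theorem f4T' : IsType chevF4 4 CoxeterMatrix.F₄ := by simp [IsType, typeList]
theorem e7T' : IsType chevE7 7 CoxeterMatrix.E₇ := by simp [IsType, typeList]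
theorem e8T' : IsType chevE8 8 CoxeterMatrix.E₈ := by simp [IsType, typeList]

variable {F : Type} [Field F] [Fintype F] {p : ℕ} {π : Set ℕ} {S : Type v} [Group S] [Finite S] [IsSimpleGroup S]

theorem row_f4 (hna : ¬ IsMulCommutative S) (hE : IsEPiGroup π S) (h2π : 2 ∈ π) (h3π : 3 ∉ π) (hpp : p.Prime)
    (hpπ : p ∉ π) [hFp : CharP F p] (hS : Nonempty (S ≃* chevF4.group F)) : Rw π S :=
  row_split f4T' hpp hpπ hna hE h2π h3π hS invC_F4 one_ne_zero (Or.inl rfl) (fun q hq _ h => hq.one_lt.ne'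
    (Nat.dvd_one.1 h)) (by decide) ltF4 ltFF4 rhoF4 (fun hk e he hq h2 i hi =>
      ⟨h1_odd f4T' hk _ he hq invC_F4 one_ne_zero (Or.inl rfl) (by norm_num) hi _,
        one_F4 f4T' h2 p hk (hAlg_of_locFin hk p) hi, Tq f4T', fun _ _ => Iff.rfl, fun q hq h5 hqp => omOK_F4 hk f4T' hq h5 hqp⟩)

theorem row_e8 (hna : ¬ IsMulCommutative S) (hE : IsEPiGroup π S) (h2π : 2 ∈ π) (h3π : 3 ∉ π) (hpp : p.Prime)
    (hpπ : p ∉ π) [hFp : CharP F p] (hS : Nonempty (S ≃* chevE8.group F)) : Rw π S :=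
  row_split e8T' hpp hpπ hna hE h2π h3π hS invC_E8 one_ne_zero (Or.inl rfl) (fun q hq _ h => hq.one_lt.ne'
    (Nat.dvd_one.1 h)) (by decide) ltE8 ltFE8 rhoE8 (fun hk e he hq h2 i hi =>
      ⟨h1_odd e8T' hk _ he hq invC_E8 one_ne_zero (Or.inl rfl) (by norm_num) hi _,
        one_E8 e8T' h2 p hk (hAlg_of_locFin hk p) hi, Tq e8T', fun _ _ => Iff.rfl, fun q hq h5 hqp => omOK_E8 hk e8T' hq h5 hqp⟩)

/-- a functional taking the value 1 on the root -/
theorem unimod_E7 : ∀ s ∈ LE7, ∃ j : Fin 7, vec chevE7 7 s j = 1 ∨ vec chevE7 7 s j = -1 := by decide +kernel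

theorem row_e7 (hna : ¬ IsMulCommutative S) (hE : IsEPiGroup π S) (h2π : 2 ∈ π) (h3π : 3 ∉ π) (hpp : p.Prime)
    (hpπ : p ∉ π) [hFp : CharP F p] (hS : Nonempty (S ≃* chevE7.group F)) : Rw π S :=
  row_split e7T' hpp hpπ hna hE h2π h3π hS invC_E7 two_ne_zero (Or.inr Nat.prime_two) (fun q hq h5 h => by
    have := Nat.le_of_dvd (by norm_num) h
    omega) (by decide) ltE7 ltFE7 rhoE7 (fun hk e he hq h2 i hi =>
      ⟨fun ε hε h4 z hzT hzX s hs hlt => by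
          obtain ⟨j, hj⟩ := unimod_E7 s hs
          refine H14.CommRange.comm_mem_range e7T' _ hk he hq invC_E7 two_ne_zero h2 hi hε h4 hzT hzX hlt
            (fun j' => if j' = j then vec chevE7 7 s j else 0) ?_
          rw [Finset.sum_eq_single j]
          · rw [if_pos rfl]
            rcases hj with h | h <;> rw [h] <;> norm_num
          · intro b _ hb
            rw [if_neg hb, zero_mul]
          · intro h
            exact absurd (Finset.mem_univ j) h,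
        one_E7 e7T' h2 p hk (hAlg_of_locFin hk p) hi, Tq e7T', fun _ _ => Iff.rfl, fun q hq h5 hqp => omOK_E7 hk e7T' hq h5 hqp⟩)

end Cfsg.Agent.H554.BS
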