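import Cfsg.Agent.H554.BS.TwZ
import Cfsg.Agent.H167.EX.ChkF4
import Cfsg.Agent.H167.EX.ChkE6
import Cfsg.Agent.H167.EX.ChkE7
import Cfsg.Agent.H167.EX.ChkE8
import Cfsg.Agent.H720.TwFr

/-!
# Tables (helper554)
-/

set_option autoImplicit false

namespace Cfsg.Agent.H554.BS

open CoxeterSystem Cfsg Cfsg.Lie Cfsg.Lie.ChevalleyDatum
open Cfsg.Agent.ChevalleyStructure Cfsg.Agent.ChevalleyStructure.CoxeterGeom Cfsg.Agent.Nodes.RGDChev
  Cfsg.Agent.ChevalleyStructure.CoxeterGeomTypes Cfsg.Agent.H167.EX Cfsg.Agent.H720.TwFr Cfsg.Agent.Tits.Roots Cfsg.Agent.Tits.Core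

def FF4 : List ℕ := [0, 6, 17, 22]
def FE6 : List ℕ := [0, 11, 27, 32]
def FE7 : List ℕ := [0, 33, 38, 47, 52, 59, 62]
def FE8 : List ℕ := [0, 13, 80, 87, 98, 104, 113, 118]

theorem ltFF4 : ∀ s ∈ FF4, s < chevF4.nroots := by decide +kernel
theorem ltFE7 : ∀ s ∈ FE7, s < chevE7.nroots := by decide +kernel
theorem ltFE8 : ∀ s ∈ FE8, s < chevE8.nroots := by decide +kernel

theorem rhoF4 : ∀ i : Fin 4, rhoL chevF4 4 FF4 (sr i) = -sr i := by decide +kernel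
theorem rhoE7 : ∀ i : Fin 7, rhoL chevE7 7 FE7 (sr i) = -sr i := by decide +kernel
theorem rhoE8 : ∀ i : Fin 8, rhoL chevE8 8 FE8 (sr i) = -sr i := by decide +kernel

/-- the roots fixed by the graph automorphism used below -/
def ME6 : List ℕ := [0, 1, 2, 6, 0, 11, 27, 32]

theorem ME6_eq : ME6 = LE6 ++ FE6 := rfl
theorem ltME6 : ∀ s ∈ ME6, s < chevE6.nroots := by decide +kernel
theorem gME6 : ∀ s ∈ ME6, permE rho6 (vec chevE6 6 s) = vec chevE6 6 s := by decide +kernel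
theorem aE6 : ∀ s ∈ LE6, ∀ i : Fin 6, fs chevE6 6 s (rhoL chevE6 6 FE6 (sr i)) = -fs chevE6 6 s (sr i) := by
  decide +kernel
theorem a6 : ∀ s ∈ LE6, ∀ i : Fin 6, fs chevE6 6 s ((permE rho6).symm (sr i)) = fs chevE6 6 s (sr i) := by
  decide +kernel
theorem bE6 : ∀ s ∈ ME6, rhoL chevE6 6 FE6 (vec chevE6 6 s) = -vec chevE6 6 s := by decide +kernel
theorem cE6 : ∀ i : Fin 6, rhoL chevE6 6 FE6 (rhoL chevE6 6 FE6 (sr i)) = sr i := by decide +kernel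
theorem c6 : ∀ i : Fin 6, (permE rho6).symm (rhoL chevE6 6 FE6 ((permE rho6).symm (rhoL chevE6 6 FE6 (sr i)))) = sr i := by
  decide +kernel
theorem c6' : ∀ i : Fin 6, (permE rho6).symm ((permE rho6).symm (sr i)) = (sr i : Fin 6 → ℤ) := by
  decide +kernel

end Cfsg.Agent.H554.BS
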