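import Cfsg.Agent.H554.BS.Abs
import Cfsg.Agent.H554.BS.Iface

/-!
# The abstract row (helper554)
-/

set_option autoImplicit false

namespace Cfsg.Agent.H554.BS

open Subgroup Cfsg Cfsg.Agent.H553.ExtRed Cfsg.Agent.H988.CPi
open scoped Pointwise commutatorElement

universe u v

/-- `(pCore 2 H).map H.subtype` under an injective homomorphism -/
theorem map_pCore_map {G : Type u} {Γ : Type v} [Group G] [Group Γ] {F : G →* Γ} (hF : Function.Injective F)
    (H : Subgroup G) : ((pCore 2 H).map H.subtype).map F = (pCore 2 ↥(H.map F)).map (H.map F).subtype := by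
  let e : ↥H ≃* ↥(H.map F) := H.equivMapOfInjective F hF
  have h1 := Cfsg.Agent.Lib.Cores.map_equiv_pCore e 2
  rw [← h1, Subgroup.map_map, Subgroup.map_map]
  rfl

variable {G : Type u} [Group G] [Finite G] {Γ : Type v} [Group Γ]

theorem good_row [IsSimpleGroup G] (hna : ¬ IsMulCommutative G) {π : Set ℕ} (h2π : 2 ∈ π) (h3π : 3 ∉ π) {p : ℕ}
    (hpπ : p ∉ π) (hp : p.Prime) {T : Subgroup Γ} (hTab : ∀ x ∈ T, ∀ y ∈ T, x * y = y * x) {X : Set Γ}
    (hXT : ∀ x ∈ X, x ∈ T) (hX4 : ∀ x ∈ X, x ^ 4 = 1) (hOne : OneP p X T) (f : G →* Γ) (hf : Function.Injective f)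
    (z : Γ) (hXf : ∀ x ∈ X, ∃ a, f a = z * x * z⁻¹)
    (hR : ∀ N : Subgroup G, N ≠ ⊥ → Odd (Nat.card N) → (∀ n ∈ N, z⁻¹ * f n * z ∈ T) →
      (∀ r, r.Prime → r ∣ Nat.card N → 5 ≤ r ∧ r ≠ p) →
      ∃ r, r.Prime ∧ r ∣ Nat.card N ∧ ∃ R₀ : Subgroup G, IsPGroup r R₀ ∧ (∀ x ∈ R₀, ∀ n ∈ N, x * n = n * x) ∧
        ∃ g₁ : Γ, Reg (R₀.map f) (MulAut.conj g₁ • T))
    (H : Subgroup G) (hH : IsPiHall π H) : Good π G := by
  have hmz : ∀ a : G, f a ∈ MulAut.conj z • T ↔ z⁻¹ * f a * z ∈ T := fun a => mem_cs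
  -- the toral 2-group
  let A₁ : Subgroup G :=
    { carrier := {a | z⁻¹ * f a * z ∈ T ∧ a ^ 4 = 1}
      one_mem' := ⟨by rw [map_one, mul_one, inv_mul_cancel]; exact one_mem _, one_pow _⟩
      mul_mem' := by
        rintro a b ⟨ha, ha4⟩ ⟨hb, hb4⟩
        have hab : Commute a b := by
          have h1 := hTab _ ha _ hb
          apply hf
          rw [map_mul, map_mul]
          calc f a * f b = z * ((z⁻¹ * f a * z) * (z⁻¹ * f b * z)) * z⁻¹ := by group
            _ = z * ((z⁻¹ * f b * z) * (z⁻¹ * f a * z)) * z⁻¹ := by rw [h1]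
            _ = f b * f a := by group
        refine ⟨?_, by rw [hab.mul_pow, ha4, hb4, one_mul]⟩
        have e : z⁻¹ * f (a * b) * z = (z⁻¹ * f a * z) * (z⁻¹ * f b * z) := by rw [map_mul]; group
        rw [e]
        exact mul_mem ha hb
      inv_mem' := by
        rintro a ⟨ha, ha4⟩
        refine ⟨?_, by rw [inv_pow, ha4, inv_one]⟩
        have e : z⁻¹ * f a⁻¹ * z = (z⁻¹ * f a * z)⁻¹ := by rw [map_inv]; group
        rw [e]
        exact inv_mem ha }
  have hA2 : IsPGroup 2 A₁ := fun a => ⟨2, Subtype.ext a.2.2⟩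
  have := Fact.mk Nat.prime_two
  obtain ⟨g, hg⟩ := exists_conj_le (K := H) (hH.2 2 Nat.prime_two h2π) hA2
  set H₁ : Subgroup G := MulAut.conj g⁻¹ • H with hH₁
  have hH₁H : IsPiHall π H₁ := isPiHall_smul hH g⁻¹
  have hAH : A₁ ≤ H₁ := by
    intro a ha
    rw [hH₁, mem_cs, inv_inv]
    exact hg a ha
  -- the conjugated embedding
  let F : G →* Γ := (MulAut.conj z⁻¹).toMonoidHom.comp f
  have hFa : ∀ a, F a = z⁻¹ * f a * z := fun a => by
    show z⁻¹ * f a * z⁻¹⁻¹ = _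
    rw [inv_inv]
  have hF : Function.Injective F := (MulAut.conj z⁻¹).injective.comp hf
  set K : Subgroup Γ := H₁.map F with hK
  have hKfin : Finite K := by
    have : Finite (H₁ : Set G) := Set.toFinite _
    exact Set.Finite.to_subtype (Set.Finite.image F (Set.toFinite (H₁ : Set G)))
  have hcardK : Nat.card K = Nat.card H₁ := (Nat.card_congr (H₁.equivMapOfInjective F hF).toEquiv).symm
  have hK3 : ¬ 3 ∣ Nat.card K := fun h => h3π (hH₁H.1 3 Nat.prime_three (by rwa [← hcardK]))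
  have hKp : ¬ p ∣ Nat.card K := fun h => hpπ (hH₁H.1 p hp (by rwa [← hcardK]))
  have hXK : X ⊆ K := by
    intro x hx
    obtain ⟨a, ha⟩ := hXf x hx
    have h1 : z⁻¹ * f a * z = x := by rw [ha]; group
    have ha4 : a ^ 4 = 1 := by
      apply hf
      rw [map_pow, ha, conj_pow, hX4 x hx, map_one]
      group
    refine ⟨a, hAH ⟨?_, ha4⟩, ?_⟩
    · show z⁻¹ * f a * z ∈ T
      rw [h1]; exact hXT x hx
    · rw [hFa, h1]
  obtain ⟨N', hN'K, hN'n, hN'T, hN'odd, hN'C⟩ := hOne K hKfin hK3 hKp hXK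
  set N : Subgroup G := N'.comap F with hN
  have hmemN : ∀ n, n ∈ N ↔ F n ∈ N' := fun n => Iff.rfl
  have hNmap : N.map F = N' := by
    rw [hN, Subgroup.map_comap_eq, inf_eq_right]
    intro y hy
    obtain ⟨a, -, ha⟩ := hN'K hy
    exact ⟨a, ha⟩
  have hcardN : Nat.card N = Nat.card N' := by
    rw [← hNmap]
    exact Nat.card_congr (N.equivMapOfInjective F hF).toEquiv
  have hNH : N ≤ H₁ := by
    intro n hn
    obtain ⟨a, ha, hae⟩ := hN'K ((hmemN n).1 hn)
    rwa [← hF hae]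
  have h3H : ¬ 3 ∣ Nat.card H₁ := by rwa [← hcardK]
  refine Cfsg.Agent.H554.BS.good hna h2π f hf (T := MulAut.conj z • T) ?_ H₁ hH₁H h3H N hNH ?_ ?_ (by rw [hcardN]; exact hN'odd) ?_ ?_
  · intro x hx y hy
    have h1 := hTab _ (mem_cs.1 hx) _ (mem_cs.1 hy)
    calc x * y = z * ((z⁻¹ * x * z) * (z⁻¹ * y * z)) * z⁻¹ := by group
      _ = z * ((z⁻¹ * y * z) * (z⁻¹ * x * z)) * z⁻¹ := by rw [h1]
      _ = y * x := by group
  · intro h hh n hn
    rw [hmemN, map_mul, map_mul, map_inv]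
    exact hN'n _ ⟨h, hh, rfl⟩ _ hn
  · intro n hn
    rw [hmz, ← hFa]
    exact hN'T hn
  · intro x hx hxN hxP
    have h1 := hN'C (F x) ⟨x, hx, rfl⟩ (by
      intro n' hn'
      rw [← hNmap] at hn'
      obtain ⟨n, hn, rfl⟩ := hn'
      rw [← map_mul, hxN n hn, map_mul]) (by
      intro y hy
      rw [← map_pCore_map hF] at hy
      obtain ⟨y', hy', rfl⟩ := hy
      rw [← map_mul, hxP y' hy', map_mul])
    rw [← map_pCore_map hF, ← hNmap, ← Subgroup.map_sup] at h1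
    obtain ⟨y, hy, hyx⟩ := h1
    rwa [← hF hyx]
  · intro hNne
    obtain ⟨r, hr, hrN, R₀, hR₀, hRN, g₁, hreg⟩ := hR N hNne (by rw [hcardN]; exact hN'odd)
      (fun n hn => by rw [← hFa]; exact hN'T hn) (by
        intro r hr hrN
        have hrH := hrN.trans (card_dvd_of_le hNH)
        have hrπ := hH₁H.1 r hr hrH
        refine ⟨?_, fun h => hpπ (h ▸ hrπ)⟩
        have h2 : r ≠ 2 := by
          rintro rfl
          have h4 : Odd (Nat.card N) := by rw [hcardN]; exact hN'odd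
          exact (Nat.not_even_iff_odd.2 h4) (even_iff_two_dvd.2 hrN)
        have h3 : r ≠ 3 := fun h => h3π (h ▸ hrπ)
        have h4 : r ≠ 4 := by
          rintro rfl
          exact absurd hr (by decide)
        have := hr.two_le
        omega)
    refine ⟨r, hr, hrN, R₀, hR₀, hRN, g₁ * z⁻¹, ?_⟩
    rw [smul_smul, ← map_mul, inv_mul_cancel_right]
    exact hreg

end Cfsg.Agent.H554.BS
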