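import Cfsg.Agent.H554.BS.RegOm

/-!
# Twisting by products of reflections (helper554)

* `cX_ph_hS`, `cX_wE` : the characters of `ph (hS c)` and of the reflection conjugates;
* `exists_twist` : `z` with `σ (z h z⁻¹) = z h z⁻¹ ↔ ∀ x, cX h (g⁻¹ (rhoL L x)) ^ p ^ e = cX h x`.
-/

set_option autoImplicit false
set_option linter.unusedSectionVars false

namespace Cfsg.Agent.H554.BS

open CoxeterSystem Cfsg Cfsg.Lie Cfsg.Lie.ChevalleyDatum
open Cfsg.Agent.ChevalleyStructure Cfsg.Agent.ChevalleyStructure.Elts Cfsg.Agent.ChevalleyStructure.CoxeterGeom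
  Cfsg.Agent.ChevalleyStructure.CoxeterGeomTypes Cfsg.Agent.ChevalleyStructure.NPerm
open Cfsg.Agent.Tits.Roots Cfsg.Agent.Tits.Core Cfsg.Agent.Nodes Cfsg.Agent.Nodes.Reps Cfsg.Agent.Nodes.BNOf
  Cfsg.Agent.Nodes.RGDChev Cfsg.Agent.Nodes.Bruhat Cfsg.Agent.Nodes.NormalForm
open Cfsg.Agent.KFacts.RgdField Cfsg.Agent.KFacts.RgdChevCoord
open Cfsg.Agent.BpExc Cfsg.Agent.BpExc.TorCent Cfsg.Agent.BpExc.TorChev Cfsg.Agent.BpExc.Tow
  Cfsg.Agent.BpExc.TowChev Cfsg.Agent.BpExc.Fr Cfsg.Agent.BpExc.Pair Cfsg.Agent.BpExc.LangFr Cfsg.Agent.GpExc.Field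
  Cfsg.Agent.BpExc.TorAll
open Cfsg.Agent.H469.Exc Cfsg.Agent.H469.Exc.SigFr
open Cfsg.Agent.Nodes.RGDFoldSL
open Cfsg.Agent.ChevalleyStructure.SL2Hom (up lo mem_closure_SL2)
open Cfsg.Agent.H167.EX Cfsg.Agent.H795.LangT Cfsg.Agent.H129.TorusChar
open scoped commutatorElement Pointwise

universe u v

variable {D : ChevalleyDatum} {l : ℕ} {M : CoxeterMatrix (Fin l)} (hp : IsType D l M) {k : Type u} [Field k]
  (hk : LocFin k) {p : ℕ} [Fact p.Prime] [CharP k p]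

/-- the pairing of the coroot of the root `s` with `x` -/
def fs (D : ChevalleyDatum) (l : ℕ) (s : ℕ) (x : Fin l → ℤ) : ℤ := ∑ j, x j * HMatDiagAll.expo D s (D.simple j)

theorem fs_add (s : ℕ) (x y : Fin l → ℤ) : fs D l s (x + y) = fs D l s x + fs D l s y := by
  unfold fs
  rw [← Finset.sum_add_distrib]
  exact Finset.sum_congr rfl fun j _ => by rw [Pi.add_apply, add_mul]

theorem fs_smul (s : ℕ) (n : ℤ) (x : Fin l → ℤ) : fs D l s (n • x) = n * fs D l s x := by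
  unfold fs
  rw [Finset.mul_sum]
  exact Finset.sum_congr rfl fun j _ => by rw [Pi.smul_apply, smul_eq_mul, mul_assoc]

theorem fs_sub (s : ℕ) (x y : Fin l → ℤ) : fs D l s (x - y) = fs D l s x - fs D l s y := by
  have h1 : x - y = x + (-1 : ℤ) • y := by rw [neg_smul, one_smul, sub_eq_add_neg]
  rw [h1, fs_add, fs_smul]
  ring

theorem fs_sr (hp : IsType D l M) (s : ℕ) (j : Fin l) : fs D l s (sr j) = HMatDiagAll.expo D s (D.simple j) := by
  unfold fs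
  rw [Finset.sum_eq_single j]
  · rw [sr_self, one_mul]
  · intro b _ hb
    rw [sr_ne hb, zero_mul]
  · intro h
    exact absurd (Finset.mem_univ j) h

include hk in
/-- the characters of `ph (hS c)` -/
theorem cX_ph_hS {s : ℕ} (hs : s < D.nroots) (p : ℕ) [Fact p.Prime] [CharP k p] {c : k} (hc : c ≠ 0)
    (x : Fin l → ℤ) : cX hp (ph hp k hs (hS c)) x = c ^ fs D l s x := by
  unfold cX fs
  have h1 : ∀ i : Fin l, ch hp (sr i) (ph hp k hs (hS c)) ^ x i = c ^ (x i * HMatDiagAll.expo D s (D.simple i)) := by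
    intro i
    rw [← vec_simple hp i, ch_ph_hS hp hs p hk hc (simple_lt hp.inList (lt_rank hp i)), ← zpow_mul, mul_comm]
  rw [Finset.prod_congr rfl fun i _ => h1 i]
  have h2 : ∀ S : Finset (Fin l), ∏ i ∈ S, c ^ (x i * HMatDiagAll.expo D s (D.simple i)) =
      c ^ ∑ i ∈ S, x i * HMatDiagAll.expo D s (D.simple i) := by
    intro S
    induction S using Finset.induction_on with
    | empty => simp
    | insert a S ha ih => rw [Finset.prod_insert ha, Finset.sum_insert ha, ih, zpow_add₀ hc]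
  exact h2 _

/-- the reflection of the root `s` -/
def sra (D : ChevalleyDatum) (l : ℕ) (s : ℕ) (x : Fin l → ℤ) : Fin l → ℤ := x - fs D l s x • vec D l s

/-- product of reflections -/
def rhoL (D : ChevalleyDatum) (l : ℕ) : List ℕ → (Fin l → ℤ) → (Fin l → ℤ)
  | [], x => x
  | s :: L, x => rhoL D l L (sra D l s x)

theorem sra_add (s : ℕ) (x y : Fin l → ℤ) : sra D l s (x + y) = sra D l s x + sra D l s y := by
  unfold sra
  rw [fs_add, add_smul]
  abel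

theorem rhoL_add (L : List ℕ) : ∀ x y : Fin l → ℤ, rhoL D l L (x + y) = rhoL D l L x + rhoL D l L y := by
  induction L with
  | nil => intro x y; rfl
  | cons s L ih =>
    intro x y
    show rhoL D l L (sra D l s (x + y)) = _
    rw [sra_add, ih]
    rfl

/-- as an additive map -/
def rhoM (D : ChevalleyDatum) (l : ℕ) (L : List ℕ) : (Fin l → ℤ) →+ (Fin l → ℤ) :=
  AddMonoidHom.mk' (rhoL D l L) (rhoL_add L)

theorem rhoM_apply (L : List ℕ) (x : Fin l → ℤ) : rhoM D l L x = rhoL D l L x := rfl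

/-- additive maps agree if they agree on the basis -/
theorem addHom_ext {A : Type*} [AddCommGroup A] {f g : (Fin l → ℤ) →+ A} (h : ∀ i, f (sr i) = g (sr i)) (x : Fin l → ℤ) :
    f x = g x := by
  rw [IsMC.eq_sum_sr x, map_sum, map_sum]
  exact Finset.sum_congr rfl fun i _ => by rw [map_zsmul, map_zsmul, h i]

theorem wS_hS {c : k} (hc : c ≠ 0) : (wS 1 * hS c : SL k) = hS c⁻¹ * wS 1 := by
  obtain ⟨w1, w2, w3, w4⟩ := wS_entries (k := k) (t := 1) one_ne_zero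
  obtain ⟨a1, a2, a3, a4⟩ := hS_entries hc
  obtain ⟨b1, b2, b3, b4⟩ := hS_entries (inv_ne_zero hc)
  refine sl_ext ?_ ?_ ?_ ?_
  · rw [mul00, mul00, w1, w2, w3, a1, a3, b1, b2]; ring
  · rw [mul01, mul01, w1, w2, w4, a2, a4, b1, b2]; ring
  · rw [mul10, mul10, w3, w4, w1, a1, a3, b3, b4, inv_inv]; ring
  · rw [mul11, mul11, w3, w4, w2, a2, a4, b3, b4]; ring

include hk in
/-- the reflection on the torus -/
theorem ref_torus [IsAlgClosed k] {s : ℕ} (hs : s < D.nroots) (p : ℕ) [Fact p.Prime] [CharP k p] {t : ↥(D.group k)}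
    (ht : t ∈ TT D k) : ∃ c : k, c ≠ 0 ∧ c = ch hp (vec D l s) t ∧
      ph hp k hs (wS 1) * t * (ph hp k hs (wS 1))⁻¹ = t * (ph hp k hs (hS c))⁻¹ := by
  obtain ⟨μ, hμ⟩ := IsAlgClosed.exists_pow_nat_eq (ch hp (vec D l s) t) (show 0 < 2 by norm_num)
  have h0 := (act hp hs ht).1
  have hμ0 : μ ≠ 0 := by
    rintro rfl
    apply h0
    rw [← hμ, zero_pow (by norm_num)]
  refine ⟨μ ^ 2, pow_ne_zero 2 hμ0, hμ, ?_⟩
  have hh := ph_hS_mem hp (k := k) hs hμ0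
  have hc : (ph hp k hs (hS μ))⁻¹ * t ∈ TT D k := mul_mem (inv_mem hh) ht
  have e1 : ch hp (vec D l s) ((ph hp k hs (hS μ))⁻¹ * t) = 1 := by
    have h2 := Cfsg.Agent.H167.EX.ch_mul hp p hk hs hh hc
    rw [mul_inv_cancel_left, ch_ph_hS hp hs p hk hμ0 hs] at h2
    have h3 : HMatDiagAll.expo D s s = 2 := by unfold HMatDiagAll.expo; rw [if_pos rfl]
    rw [h3, ← hμ] at h2
    have h4 : μ ^ (2 : ℤ) = μ ^ 2 := by norm_cast
    rw [h4] at h2
    exact (mul_eq_left₀ (pow_ne_zero 2 hμ0)).1 h2.symm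
  have hcc : (ph hp k hs (hS μ))⁻¹ * t ∈ Subgroup.centralizer ((ph hp k hs).range : Set ↥(D.group k)) :=
    mem_cent hp hs (comm_xs_of_ch hp hs hc e1) (comm_xs_of_ch hp (neg_lt hp.inList hs) hc (by
      rw [ch_neg hp hs p hk hc, e1, inv_one]))
  set c := (ph hp k hs (hS μ))⁻¹ * t with hcdef
  have htc : t = ph hp k hs (hS μ) * c := by rw [hcdef, mul_inv_cancel_left]
  have hcomm : ph hp k hs (wS 1) * c = c * ph hp k hs (wS 1) := Subgroup.mem_centralizer_iff.1 hcc _ ⟨wS 1, rfl⟩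
  have hcomm2 : ∀ A, ph hp k hs A * c = c * ph hp k hs A := fun A => Subgroup.mem_centralizer_iff.1 hcc _ ⟨A, rfl⟩
  have h5 : ph hp k hs (wS 1) * ph hp k hs (hS μ) = ph hp k hs (hS μ⁻¹) * ph hp k hs (wS 1) := by
    rw [← map_mul, wS_hS hμ0, map_mul]
  have h6 : (ph hp k hs (hS (μ ^ 2)))⁻¹ = (ph hp k hs (hS μ))⁻¹ * (ph hp k hs (hS μ))⁻¹ := by
    rw [← mul_inv_rev, ← map_mul, ← pow_two, hS_pow hμ0]
  have h7 : ph hp k hs (hS μ⁻¹) = (ph hp k hs (hS μ))⁻¹ := by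
    rw [eq_inv_iff_mul_eq_one, ← map_mul]
    have h8 : (hS μ⁻¹ * hS μ : SL k) = 1 := by
      obtain ⟨a1, a2, a3, a4⟩ := hS_entries hμ0
      obtain ⟨b1, b2, b3, b4⟩ := hS_entries (inv_ne_zero hμ0)
      refine sl_ext ?_ ?_ ?_ ?_
      · rw [mul00, b1, b2, a1, a3, inv_mul_cancel₀ hμ0, mul_zero, add_zero]; rfl
      · rw [mul01, b1, b2, a2, a4, mul_zero, zero_mul, add_zero]; rfl
      · rw [mul10, b3, b4, a1, a3, mul_zero, zero_mul, add_zero]; rfl
      · rw [mul11, b3, b4, a2, a4, inv_inv, mul_zero, zero_add, mul_inv_cancel₀ hμ0]; rfl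
    rw [h8, map_one]
  calc ph hp k hs (wS 1) * t * (ph hp k hs (wS 1))⁻¹
      = (ph hp k hs (wS 1) * ph hp k hs (hS μ)) * c * (ph hp k hs (wS 1))⁻¹ := by rw [htc]; group
    _ = ph hp k hs (hS μ⁻¹) * (ph hp k hs (wS 1) * c) * (ph hp k hs (wS 1))⁻¹ := by rw [h5]; group
    _ = ph hp k hs (hS μ⁻¹) * c := by rw [hcomm]; group
    _ = t * (ph hp k hs (hS (μ ^ 2)))⁻¹ := by
      rw [h7, h6, htc, hcomm2]
      have h8 := hcomm2 (hS μ)
      calc (ph hp k hs (hS μ))⁻¹ * c = (ph hp k hs (hS μ))⁻¹ * (c * ph hp k hs (hS μ)) * (ph hp k hs (hS μ))⁻¹ := by group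
        _ = (ph hp k hs (hS μ))⁻¹ * (ph hp k hs (hS μ) * c) * (ph hp k hs (hS μ))⁻¹ := by rw [h8]
        _ = c * ph hp k hs (hS μ) * ((ph hp k hs (hS μ))⁻¹ * (ph hp k hs (hS μ))⁻¹) := by group

/-- the element `ph (wS 1)` -/
noncomputable def wE (k : Type u) [Field k] (s : ℕ) : ↥(D.group k) :=
  if hs : s < D.nroots then ph hp k hs (wS 1) else 1

theorem wE_eq {s : ℕ} (hs : s < D.nroots) : wE hp k s = ph hp k hs (wS 1) := dif_pos hs

include hk in
/-- the characters of the conjugate by the reflection element -/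
theorem cX_wE [IsAlgClosed k] {s : ℕ} (hs : s < D.nroots) (p : ℕ) [Fact p.Prime] [CharP k p] {t : ↥(D.group k)}
    (ht : t ∈ TT D k) : wE hp k s * t * (wE hp k s)⁻¹ ∈ TT D k ∧ ∀ x,
      cX hp (wE hp k s * t * (wE hp k s)⁻¹) x = cX hp t (sra D l s x) := by
  obtain ⟨c, hc, hcc, e⟩ := ref_torus hp hk hs p ht
  rw [wE_eq hp hs, e]
  have hm := ph_hS_mem hp (k := k) hs hc
  refine ⟨mul_mem ht (inv_mem hm), fun x => ?_⟩
  have hinv : cX hp (ph hp k hs (hS c))⁻¹ x = (cX hp (ph hp k hs (hS c)) x)⁻¹ := by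
    refine eq_inv_of_mul_eq_one_left ?_
    rw [← cX_mul hp (inv_mem hm) hm, inv_mul_cancel, cX_one]
  have hMC := isMC_cX hp ht
  rw [cX_mul hp ht (inv_mem hm), hinv, cX_ph_hS hp hk hs p hc, hcc, ← cX_vec hp ht hs]
  unfold sra
  rw [hMC.sub, hMC.zsmul, div_eq_mul_inv]

/-- product of the elements `wE` -/
noncomputable def wL (k : Type u) [Field k] (L : List ℕ) : ↥(D.group k) := (L.map (wE hp k)).prod

include hk in
theorem cX_wL [IsAlgClosed k] (p : ℕ) [Fact p.Prime] [CharP k p] (L : List ℕ) (hL : ∀ s ∈ L, s < D.nroots) :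
    ∀ t ∈ TT D k, wL hp k L * t * (wL hp k L)⁻¹ ∈ TT D k ∧ ∀ x,
      cX hp (wL hp k L * t * (wL hp k L)⁻¹) x = cX hp t (rhoL D l L x) := by
  induction L with
  | nil =>
    intro t ht
    have h1 : wL hp k [] = 1 := rfl
    rw [h1, one_mul, inv_one, mul_one]
    exact ⟨ht, fun x => rfl⟩
  | cons s L ih =>
    intro t ht
    have h1 : wL hp k (s :: L) = wE hp k s * wL hp k L := by
      unfold wL; rw [List.map_cons, List.prod_cons]
    obtain ⟨h2, h3⟩ := ih (fun a ha => hL a (List.mem_cons_of_mem _ ha)) t ht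
    obtain ⟨h4, h5⟩ := cX_wE hp hk (hL s List.mem_cons_self) p h2
    have e : wL hp k (s :: L) * t * (wL hp k (s :: L))⁻¹ =
        wE hp k s * (wL hp k L * t * (wL hp k L)⁻¹) * (wE hp k s)⁻¹ := by rw [h1]; group
    rw [e]
    exact ⟨h4, fun x => by rw [h5, h3]; rfl⟩

/-- `ph (SL₂)` lies in the group generated by the root groups -/
theorem ph_mem_Sup {S : Set (Fin l → ℤ)} {s : ℕ} (hs : s < D.nroots) (h1 : vec D l s ∈ S) (h2 : -vec D l s ∈ S) (A : SL k) :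
    ph hp k hs A ∈ RGD.Sup (XX D l k) S := by
  have hns := neg_lt hp.inList hs
  have h3 : A ∈ (RGD.Sup (XX D l k) S).comap (ph hp k hs) := by
    refine (Subgroup.closure_le _).2 ?_ (mem_closure_SL2 A)
    rintro _ (⟨t, rfl⟩ | ⟨t, rfl⟩)
    · rw [SetLike.mem_coe, Subgroup.mem_comap, ph_up]
      refine RGD.le_Sup (z := vec D l s) h1 ?_
      exact (LangThm.mem_XX_vec hp hs).2 ⟨t, rfl⟩
    · rw [SetLike.mem_coe, Subgroup.mem_comap, ph_lo]
      refine RGD.le_Sup (z := -vec D l s) h2 ?_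
      rw [← vec_neg hp hs]
      exact (LangThm.mem_XX_vec hp hns).2 ⟨t, rfl⟩
  exact h3

theorem wL_mem_Sup {S : Set (Fin l → ℤ)} {L : List ℕ} (hL : ∀ s ∈ L, s < D.nroots ∧ vec D l s ∈ S ∧ -vec D l s ∈ S) :
    wL hp k L ∈ RGD.Sup (XX D l k) S := by
  unfold wL
  refine list_prod_mem ?_
  intro x hx
  obtain ⟨s, hs, rfl⟩ := List.mem_map.1 hx
  rw [wE_eq hp (hL s hs).1]
  exact ph_mem_Sup hp _ (hL s hs).2.1 (hL s hs).2.2 _

section twist

variable {e : ℕ} {σ : MulAut ↥(D.group k)} {g : (Fin l → ℤ) ≃+ (Fin l → ℤ)}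

include hk in
/-- **Twisting.** -/
theorem exists_twist [IsAlgClosed k] (he : 0 < e) (hσ : IsFrob p e σ)
    (F : Fr M.toCoxeterSystem hp.isCartan (TT D k) (XX D l k) σ g) {S : Set (Fin l → ℤ)}
    (hS : ∀ a ∈ S, IsRoot M.toCoxeterSystem hp.isCartan a) (hg : ∀ a ∈ S, g a ∈ S) {L : List ℕ}
    (hL : ∀ s ∈ L, s < D.nroots ∧ vec D l s ∈ S ∧ -vec D l s ∈ S) :
    ∃ z ∈ RGD.Sup (XX D l k) S, z⁻¹ * σ z = wL hp k L ∧ ∀ h ∈ TT D k,
      (σ (z * h * z⁻¹) = z * h * z⁻¹ ↔ ∀ x, cX hp h (g.symm (rhoL D l L x)) ^ p ^ e = cX hp h x) := by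
  obtain ⟨z, hz, hzm⟩ := lang_fr hp M.toCoxeterSystem he hσ F hS hg (wL_mem_Sup hp (k := k) hL)
  refine ⟨z, hz, hzm.symm, fun h hh => ?_⟩
  have hσh : σ h ∈ TT D k := (F.tor h).2 hh
  obtain ⟨h1, h2⟩ := cX_wL hp hk p L (fun s hs => (hL s hs).1) _ hσh
  have e1 : σ (z * h * z⁻¹) = z * (wL hp k L * σ h * (wL hp k L)⁻¹) * z⁻¹ := by
    rw [hzm, map_mul, map_mul, map_inv]; group
  have h3 : ∀ x, cX hp (wL hp k L * σ h * (wL hp k L)⁻¹) x = cX hp h (g.symm (rhoL D l L x)) ^ p ^ e := by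
    intro x
    rw [h2]
    have h4 := cX_sigma hp M.toCoxeterSystem hσ F hh (g.symm (rhoL D l L x))
    rwa [AddEquiv.apply_symm_apply] at h4
  have h5 : σ (z * h * z⁻¹) = z * h * z⁻¹ ↔ wL hp k L * σ h * (wL hp k L)⁻¹ = h := by
    rw [e1]
    constructor
    · intro h6
      exact mul_left_cancel (mul_right_cancel h6)
    · intro h6
      rw [h6]
  rw [h5]
  constructor
  · intro h6 x
    rw [← h3, h6]
  · intro h6
    refine cX_inj hp h1 hh fun i => ?_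
    rw [h3, h6]

end twist

end Cfsg.Agent.H554.BS
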