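import Cfsg.Agent.H554.BS.Fam

/-!
# Twisting inside the centraliser of a part of the torus (helper554)
-/

set_option autoImplicit false
set_option linter.unusedSectionVars false

namespace Cfsg.Agent.H554.BS

open CoxeterSystem Cfsg Cfsg.Lie Cfsg.Lie.ChevalleyDatum
open Cfsg.Agent.ChevalleyStructure Cfsg.Agent.ChevalleyStructure.Elts Cfsg.Agent.ChevalleyStructure.CoxeterGeom
  Cfsg.Agent.ChevalleyStructure.CoxeterGeomTypes Cfsg.Agent.ChevalleyStructure.NPerm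
open Cfsg.Agent.Tits.Roots Cfsg.Agent.Tits.Core Cfsg.Agent.Nodes Cfsg.Agent.Nodes.Reps Cfsg.Agent.Nodes.BNOf
  Cfsg.Agent.Nodes.RGDChev Cfsg.Agent.Nodes.Bruhat Cfsg.Agent.Nodes.NormalForm
open Cfsg.Agent.KFacts.RgdField Cfsg.Agent.KFacts.RgdChevCoord
open Cfsg.Agent.BpExc Cfsg.Agent.BpExc.TorCent Cfsg.Agent.BpExc.TorChev Cfsg.Agent.BpExc.Tow
  Cfsg.Agent.BpExc.TowChev Cfsg.Agent.BpExc.Fr Cfsg.Agent.BpExc.Pair Cfsg.Agent.BpExc.LangFr Cfsg.Agent.GpExc.Field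
  Cfsg.Agent.BpExc.TorAll
open Cfsg.Agent.H469.Exc Cfsg.Agent.H469.Exc.SigFr
open Cfsg.Agent.Nodes.RGDFoldSL
open Cfsg.Agent.ChevalleyStructure.SL2Hom (up lo mem_closure_SL2)
open Cfsg.Agent.H167.EX Cfsg.Agent.H795.LangT Cfsg.Agent.H129.TorusChar
open scoped commutatorElement Pointwise

universe u v

variable {D : ChevalleyDatum} {l : ℕ} {M : CoxeterMatrix (Fin l)} (hp : IsType D l M) {k : Type u} [Field k]
  (hk : LocFin k) {p : ℕ} [Fact p.Prime] [CharP k p]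

include hp in
theorem isRoot_vec {s : ℕ} (hs : s < D.nroots) : IsRoot M.toCoxeterSystem hp.isCartan (vec D l s) :=
  (isRoot_iff hp M.toCoxeterSystem _).2 ⟨s, hs, rfl⟩

include hp in
theorem isRoot_neg_vec {s : ℕ} (hs : s < D.nroots) : IsRoot M.toCoxeterSystem hp.isCartan (-vec D l s) :=
  (isRoot_iff hp M.toCoxeterSystem _).2 ⟨D.neg s, neg_lt hp.inList hs, vec_neg hp hs⟩

theorem pow_char_eq_one {p e : ℕ} [Fact p.Prime] {k : Type u} [Field k] [CharP k p] {x : k} (h : x ^ p ^ e = 1) :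
    x = 1 := by
  have h1 : (x - 1) ^ p ^ e = 0 := by
    rw [sub_pow_char_pow, one_pow, h, sub_self]
  exact sub_eq_zero.1 (eq_zero_of_pow_eq_zero h1)

section twist

variable {e : ℕ} {σ : MulAut ↥(D.group k)} {g : (Fin l → ℤ) ≃+ (Fin l → ℤ)}

include hk in
/-- **Twisting**, full version. -/
theorem exists_twist_all [IsAlgClosed k] (he : 0 < e) (hσ : IsFrob p e σ)
    (F : Fr M.toCoxeterSystem hp.isCartan (TT D k) (XX D l k) σ g) {L : List ℕ} (hL : ∀ s ∈ L, s < D.nroots) :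
    ∃ z, z⁻¹ * σ z = wL hp k L ∧ ∀ h ∈ TT D k,
      (σ (z * h * z⁻¹) = z * h * z⁻¹ ↔ ∀ x, cX hp h (g.symm (rhoL D l L x)) ^ p ^ e = cX hp h x) := by
  obtain ⟨z, -, h1, h2⟩ := exists_twist hp hk he hσ F (S := {a | IsRoot M.toCoxeterSystem hp.isCartan a})
    (fun _ ha => ha) (fun a ha => (F.root a).2 ha) (L := L)
    (fun s hs => ⟨hL s hs, isRoot_vec hp (hL s hs), isRoot_neg_vec hp (hL s hs)⟩)
  exact ⟨z, h1, h2⟩

include hk in
/-- **Twisting**, commuting with a part of the torus. -/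
theorem exists_twist_Z [IsAlgClosed k] (he : 0 < e) (hσ : IsFrob p e σ)
    (F : Fr M.toCoxeterSystem hp.isCartan (TT D k) (XX D l k) σ g) {L L1 : List ℕ} (hL : ∀ s ∈ L, s ∈ L1)
    (hL1 : ∀ s ∈ L1, s < D.nroots ∧ g (vec D l s) = vec D l s) :
    ∃ z, z⁻¹ * σ z = wL hp k L ∧ (∀ h ∈ TT D k,
      (σ (z * h * z⁻¹) = z * h * z⁻¹ ↔ ∀ x, cX hp h (g.symm (rhoL D l L x)) ^ p ^ e = cX hp h x)) ∧
      ∀ t ∈ TT D k, (∀ s ∈ L1, ch hp (vec D l s) t = 1) → z * t = t * z := by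
  let Z : Set ↥(D.group k) := {t | t ∈ TT D k ∧ ∀ s ∈ L1, ch hp (vec D l s) t = 1}
  have hZT : Z ⊆ TT D k := fun t ht => ht.1
  let S : Set (Fin l → ℤ) := H795.SetCent.SxZ M.toCoxeterSystem hp.isCartan (ch hp) Z
  have hneg : ∀ s ∈ L1, -vec D l s ∈ S := by
    intro s hs
    refine ⟨isRoot_neg_vec hp (hL1 s hs).1, fun t ht => ?_⟩
    rw [← vec_neg hp (hL1 s hs).1, ch_neg hp (hL1 s hs).1 p hk ht.1, ht.2 s hs, inv_one]
  obtain ⟨z, hz, h1, h2⟩ := exists_twist hp hk he hσ F (S := S) (fun _ ha => ha.1) (fun a ha => by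
    refine ⟨(F.root a).2 ha.1, fun t ht => ?_⟩
    obtain ⟨t', rfl⟩ := σ.surjective t
    have ht' : t' ∈ TT D k := (F.tor t').1 ht.1
    have h3 : t' ∈ Z := by
      refine ⟨ht', fun s hs => ?_⟩
      have h4 := ch_sigma hp M.toCoxeterSystem hσ F (isRoot_vec hp (hL1 s hs).1) ht'
      rw [(hL1 s hs).2, ht.2 s hs] at h4
      exact pow_char_eq_one h4.symm
    rw [ch_sigma hp M.toCoxeterSystem hσ F ha.1 ht', ha.2 t' h3, one_pow]) (L := L)
    (fun s hs => ⟨(hL1 s (hL s hs)).1, ⟨isRoot_vec hp (hL1 s (hL s hs)).1, fun t ht => ht.2 s (hL s hs)⟩,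
      hneg s (hL s hs)⟩)
  refine ⟨z, h1, h2, fun t ht hts => ?_⟩
  have h3 := H795.SetCent.MMZ_le_centralizer (coordsL hp M.toCoxeterSystem hk p) hZT hz
  exact (Subgroup.mem_centralizer_iff.1 h3 t ⟨ht, hts⟩).symm

end twist

end Cfsg.Agent.H554.BS
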