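import Cfsg.Agent.H553.GoodLems
import Cfsg.Agent.H553.GoodStell

/-!
# The abstract end game for the exceptional groups (helper554, S4312)

`Reg Ω T` : `Ω` is a regular subgroup of the "torus" `T`.
`good` : a Hall `π`-subgroup `H` of `G` with a normal abelian subgroup `N ≤ T` of odd order such that
`C_H(O₂(H) N) ≤ O₂(H) N`; if `N ≠ 1` the centraliser of `N` contains an `r`-group `R₀`, `r ∣ |N|`, regular in a conjugate
of `T`.
-/

set_option autoImplicit false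

namespace Cfsg.Agent.H554.BS

open Subgroup Cfsg Cfsg.Agent.H553.ExtRed Cfsg.Agent.H988.CPi
open scoped Pointwise commutatorElement

universe u v

variable {Γ : Type v} [Group Γ]

/-- `Ω` is a regular subgroup of the torus `T` -/
structure Reg (Ω T : Subgroup Γ) : Prop where
  cent : ∀ x, (∀ t ∈ Ω, x * t = t * x) → x ∈ T
  quad : ∀ b, (∀ t ∈ T, b * t * b⁻¹ ∈ T) → (∀ t ∈ Ω, ⁅⁅t, b⁆, b⁆ = 1) → b ∈ T
  two : ∀ P : Subgroup Γ, Finite P → IsPGroup 2 P → (∀ t ∈ Ω, ∀ x ∈ P, t * x * t⁻¹ ∈ P) →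
    ∀ t ∈ Ω, ∀ x ∈ P, t * x = x * t

theorem mem_cs {g x : Γ} {K : Subgroup Γ} : x ∈ MulAut.conj g • K ↔ g⁻¹ * x * g ∈ K := by
  rw [Subgroup.mem_pointwise_smul_iff_inv_smul_mem, ← map_inv, MulAut.smul_def, MulAut.conj_apply, inv_inv]

theorem cs_mem {g x : Γ} {K : Subgroup Γ} (h : x ∈ K) : g * x * g⁻¹ ∈ MulAut.conj g • K := by
  rw [mem_cs]
  have e : g⁻¹ * (g * x * g⁻¹) * g = x := by group
  rwa [e]

theorem Reg.conj {Ω T : Subgroup Γ} (h : Reg Ω T) (g : Γ) : Reg (MulAut.conj g • Ω) (MulAut.conj g • T) where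
  cent := by
    intro x hx
    rw [mem_cs]
    refine h.cent _ fun t ht => ?_
    have h1 := hx _ (cs_mem (g := g) ht)
    calc g⁻¹ * x * g * t = g⁻¹ * (x * (g * t * g⁻¹)) * g := by group
      _ = g⁻¹ * ((g * t * g⁻¹) * x) * g := by rw [h1]
      _ = t * (g⁻¹ * x * g) := by group
  quad := by
    intro b hb hq
    rw [mem_cs]
    refine h.quad _ (fun t ht => ?_) fun t ht => ?_
    · have h1 := hb _ (cs_mem (g := g) ht)
      rw [mem_cs] at h1
      have e : g⁻¹ * b * g * t * (g⁻¹ * b * g)⁻¹ = g⁻¹ * (b * (g * t * g⁻¹) * b⁻¹) * g := by group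
      rwa [e]
    · have h1 := hq _ (cs_mem (g := g) ht)
      have e : ⁅⁅t, g⁻¹ * b * g⁆, g⁻¹ * b * g⁆ = g⁻¹ * ⁅⁅g * t * g⁻¹, b⁆, b⁆ * g := by
        simp only [commutatorElement_def]
        group
      rw [e, h1]
      group
  two := by
    intro P hP h2 hn t ht x hx
    have hfin : Finite ↥(MulAut.conj g⁻¹ • P) := by
      have : Finite (P : Set Γ) := hP
      have h3 : ((MulAut.conj g⁻¹ • P : Subgroup Γ) : Set Γ) = (fun x => MulAut.conj g⁻¹ • x) '' (P : Set Γ) := rfl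
      have : Finite ((MulAut.conj g⁻¹ • P : Subgroup Γ) : Set Γ) := by
        rw [h3]
        exact Set.Finite.to_subtype (Set.Finite.image _ (Set.toFinite _))
      exact this
    have h2' : IsPGroup 2 ↥(MulAut.conj g⁻¹ • P) := by
      rintro ⟨y, hy⟩
      have hy' := mem_cs.1 hy
      obtain ⟨k, hk⟩ := h2 ⟨_, hy'⟩
      refine ⟨k, Subtype.ext ?_⟩
      have h4 := congrArg Subtype.val hk
      simp only [SubmonoidClass.coe_pow, OneMemClass.coe_one] at h4 ⊢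
      rw [inv_inv, conj_pow, mul_eq_one_iff_eq_inv] at h4
      exact mul_left_cancel (a := g) (by rw [h4, mul_one, inv_inv])
    have h5 := h.two (MulAut.conj g⁻¹ • P) hfin h2' (by
      intro s hs y hy
      rw [mem_cs, inv_inv] at hy ⊢
      have h6 := hn _ (cs_mem (g := g) hs) _ hy
      have e : g * (s * y * s⁻¹) * g⁻¹ = g * s * g⁻¹ * (g * y * g⁻¹) * (g * s * g⁻¹)⁻¹ := by group
      rwa [e]) (g⁻¹ * t * g) (mem_cs.1 ht) (g⁻¹ * x * g) (by
        rw [mem_cs, inv_inv]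
        have e : g * (g⁻¹ * x * g) * g⁻¹ = x := by group
        rwa [e])
    calc t * x = g * ((g⁻¹ * t * g) * (g⁻¹ * x * g)) * g⁻¹ := by group
      _ = g * ((g⁻¹ * x * g) * (g⁻¹ * t * g)) * g⁻¹ := by rw [h5]
      _ = x * t := by group

/-- an `r`-subgroup is conjugate into a subgroup of index prime to `r` -/
theorem exists_conj_le {M : Type*} [Group M] [Finite M] {r : ℕ} [hr : Fact r.Prime] {K R : Subgroup M}
    (hK : ¬ r ∣ K.index) (hR : IsPGroup r R) : ∃ g : M, ∀ x ∈ R, g * x * g⁻¹ ∈ K := by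
  have h1 : ¬ r ∣ Nat.card (M ⧸ K) := hK
  obtain ⟨a, ha⟩ := hR.nonempty_fixed_point_of_prime_not_dvd_card (M ⧸ K) h1
  obtain ⟨g, rfl⟩ := QuotientGroup.mk_surjective a
  refine ⟨g⁻¹, fun x hx => ?_⟩
  have h2 := ha ⟨x, hx⟩
  have h3 : ((x * g : M) : M ⧸ K) = (g : M ⧸ K) := h2
  rw [eq_comm, QuotientGroup.eq] at h3
  rwa [inv_inv, mul_assoc]

section main

variable {G : Type u} [Group G] [Finite G]

/-- elements of odd order in the product of two commuting subgroups, the first one a 2-group -/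
theorem mem_of_sup {P N : Subgroup G} (hP : IsPGroup 2 P) (hc : ∀ x ∈ P, ∀ n ∈ N, x * n = n * x) {x : G} {m : ℕ}
    (hm : Odd m) (hxm : x ^ m = 1) (hx : x ∈ P ⊔ N) : x ∈ N := by
  have key : ∀ y ∈ P ⊔ N, ∃ k : ℕ, y ^ 2 ^ k ∈ N := by
    intro y hy
    have h1 : ∃ a ∈ P, ∃ b ∈ N, a * b = y := by
      rw [Subgroup.sup_eq_closure] at hy
      induction hy using Subgroup.closure_induction with
      | mem y hy =>
        rcases hy with hy | hy
        · exact ⟨y, hy, 1, one_mem _, mul_one _⟩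
        · exact ⟨1, one_mem _, y, hy, one_mul _⟩
      | one => exact ⟨1, one_mem _, 1, one_mem _, one_mul _⟩
      | mul _ _ _ _ h1 h2 =>
        obtain ⟨a, ha, b, hb, rfl⟩ := h1
        obtain ⟨c, hc', d, hd, rfl⟩ := h2
        refine ⟨a * c, mul_mem ha hc', b * d, mul_mem hb hd, ?_⟩
        rw [mul_assoc, mul_assoc, ← mul_assoc c, hc c hc' b hb, mul_assoc]
      | inv _ _ h1 =>
        obtain ⟨a, ha, b, hb, rfl⟩ := h1
        exact ⟨a⁻¹, inv_mem ha, b⁻¹, inv_mem hb, by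
          rw [mul_inv_rev, hc _ (inv_mem ha) _ (inv_mem hb)]⟩
    obtain ⟨a, ha, b, hb, rfl⟩ := h1
    obtain ⟨k, hk⟩ := hP ⟨a, ha⟩
    refine ⟨k, ?_⟩
    have h2 : Commute a b := hc a ha b hb
    have h3 : a ^ 2 ^ k = 1 := congrArg Subtype.val hk
    rw [h2.mul_pow, h3, one_mul]
    exact pow_mem hb _
  obtain ⟨k, hk⟩ := key x hx
  have hco : Nat.Coprime (2 ^ k) m := Nat.Coprime.pow_left _ (Nat.coprime_two_left.2 hm)
  have h1 : x = x ^ (((2 ^ k : ℕ) : ℤ) * Nat.gcdA (2 ^ k) m + m * Nat.gcdB (2 ^ k) m : ℤ) := by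
    have := Nat.gcd_eq_gcd_ab (2 ^ k) m
    rw [hco] at this
    rw [← this]
    simp
  rw [h1, zpow_add, zpow_mul, zpow_mul, zpow_natCast, zpow_natCast, hxm, one_zpow, mul_one]
  exact zpow_mem hk _

theorem good [IsSimpleGroup G] (hna : ¬ IsMulCommutative G) {π : Set ℕ} (h2 : 2 ∈ π)
    (f : G →* Γ) (hf : Function.Injective f) {T : Subgroup Γ} (hTab : ∀ x ∈ T, ∀ y ∈ T, x * y = y * x)
    (H : Subgroup G) (hH : IsPiHall π H) (h3 : ¬ 3 ∣ Nat.card H)
    (N : Subgroup G) (hNH : N ≤ H) (hNn : ∀ h ∈ H, ∀ n ∈ N, h * n * h⁻¹ ∈ N) (hNT : ∀ n ∈ N, f n ∈ T)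
    (hNodd : Odd (Nat.card N))
    (hC : ∀ x ∈ H, (∀ n ∈ N, x * n = n * x) → (∀ y ∈ (pCore 2 H).map H.subtype, x * y = y * x) →
      x ∈ (pCore 2 H).map H.subtype ⊔ N)
    (hR : N ≠ ⊥ → ∃ r, r.Prime ∧ r ∣ Nat.card N ∧ ∃ R₀ : Subgroup G, IsPGroup r R₀ ∧
      (∀ x ∈ R₀, ∀ n ∈ N, x * n = n * x) ∧ ∃ g₁ : Γ, Reg (R₀.map f) (MulAut.conj g₁ • T)) : Good π G := by
  set P : Subgroup G := (pCore 2 H).map H.subtype with hPdef
  have hP2 : IsPGroup 2 P := (Cfsg.Agent.Lib.Cores.pCore_isPGroup 2).map _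
  have hPH : P ≤ H := map_subtype_le _
  have hPn : ∀ h ∈ H, ∀ y ∈ P, h * y * h⁻¹ ∈ P := by
    rintro h hh _ ⟨y, hy, rfl⟩
    exact ⟨⟨h, hh⟩ * y * ⟨h, hh⟩⁻¹, (Cfsg.Agent.Lib.Cores.pCore_normal 2).conj_mem y hy _, rfl⟩
  have hPN : ∀ x ∈ P, ∀ n ∈ N, x * n = n * x := by
    intro x hx n hn
    have h1 : x * n * x⁻¹ * n⁻¹ ∈ P := by
      have e : x * n * x⁻¹ * n⁻¹ = x * (n * x * n⁻¹)⁻¹ := by group
      rw [e]
      exact mul_mem hx (inv_mem (hPn n (hNH hn) x hx))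
    have h2' : x * n * x⁻¹ * n⁻¹ ∈ N := mul_mem (hNn x (hPH hx) n hn) (inv_mem hn)
    obtain ⟨k, hk⟩ := hP2 ⟨_, h1⟩
    have hk' : (x * n * x⁻¹ * n⁻¹) ^ 2 ^ k = 1 := congrArg Subtype.val hk
    have h4 : (x * n * x⁻¹ * n⁻¹) ^ Nat.card N = 1 := by
      have := pow_card_eq_one' (x := (⟨_, h2'⟩ : N))
      exact congrArg Subtype.val this
    have h5 : x * n * x⁻¹ * n⁻¹ = 1 := by
      have h6 := Nat.dvd_gcd (orderOf_dvd_of_pow_eq_one hk') (orderOf_dvd_of_pow_eq_one h4)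
      rw [(Nat.Coprime.pow_left _ (Nat.coprime_two_left.2 hNodd) : Nat.gcd (2 ^ k) (Nat.card N) = 1)] at h6
      exact orderOf_eq_one_iff.1 (Nat.dvd_one.1 h6)
    exact mul_inv_eq_iff_eq_mul.1 (mul_inv_eq_one.1 h5)
  by_cases hN : N = ⊥
  · subst hN
    refine good_of_stellmacher hna h2 H hH h3 fun x hx => ?_
    have h1 := hC x x.2 (by
      intro n hn
      rw [mem_bot.1 hn, mul_one, one_mul]) (by
      rintro _ ⟨y, hy, rfl⟩
      have := mem_centralizer_iff.1 hx y hy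
      exact (congrArg Subtype.val this).symm)
    rw [sup_bot_eq] at h1
    obtain ⟨y, hy, hyx⟩ := h1
    rwa [← Subtype.ext (hyx : (y : G) = x)]
  obtain ⟨r, hr, hrN, R₀, hR₀, hRN, g₁, hreg⟩ := hR hN
  have := Fact.mk hr
  have hrπ : r ∈ π := hH.1 r hr (hrN.trans (card_dvd_of_le hNH))
  have hr2 : r ≠ 2 := by
    rintro rfl
    exact (Nat.not_even_iff_odd.2 hNodd) (even_iff_two_dvd.2 hrN)
  have hTab1 : ∀ x ∈ MulAut.conj g₁ • T, ∀ y ∈ MulAut.conj g₁ • T, x * y = y * x := by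
    intro x hx y hy
    have h1 := hTab _ (mem_cs.1 hx) _ (mem_cs.1 hy)
    calc x * y = g₁ * ((g₁⁻¹ * x * g₁) * (g₁⁻¹ * y * g₁)) * g₁⁻¹ := by group
      _ = g₁ * ((g₁⁻¹ * y * g₁) * (g₁⁻¹ * x * g₁)) * g₁⁻¹ := by rw [h1]
      _ = y * x := by group
  -- a conjugate of `R₀` in `H`
  obtain ⟨g, hgN, hgH⟩ : ∃ g : G, (∀ n, n ∈ N ↔ g * n * g⁻¹ ∈ N) ∧ ∀ x ∈ R₀, g * x * g⁻¹ ∈ H := by
    set M := normalizer (N : Set G) with hM
    have hHM : H ≤ M := by
      intro h hh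
      rw [hM, mem_normalizer_iff]
      intro n
      refine ⟨fun hn => hNn h hh n hn, fun hn => ?_⟩
      have := hNn h⁻¹ (inv_mem hh) _ hn
      have e : h⁻¹ * (h * n * h⁻¹) * h⁻¹⁻¹ = n := by group
      rwa [e] at this
    have hRM : R₀ ≤ M := by
      intro x hx
      rw [hM, mem_normalizer_iff]
      intro n
      refine ⟨fun hn => ?_, fun hn => ?_⟩
      · rw [hRN x hx n hn, mul_inv_cancel_right]; exact hn
      · have h4 := hRN x hx _ hn
        have e : n = x⁻¹ * (x * n * x⁻¹ * x) := by group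
        rw [e, ← h4]
        have e2 : x⁻¹ * (x * (x * n * x⁻¹)) = x * n * x⁻¹ := by group
        rwa [e2]
    have hidx : ¬ r ∣ (H.subgroupOf M).index := fun h =>
      hH.2 r hr hrπ (h.trans (by
        have := relIndex_mul_index hHM
        exact Dvd.intro _ this))
    obtain ⟨g, hg⟩ := exists_conj_le hidx (R := R₀.subgroupOf M)
      (hR₀.comap_of_injective M.subtype M.subtype_injective)
    refine ⟨g, fun n => ?_, fun x hx => ?_⟩
    · exact mem_normalizer_iff.1 g.2 n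
    · exact hg ⟨x, hRM hx⟩ hx
  set R₁ : Subgroup G := MulAut.conj g • R₀ with hR₁
  have hR₁H : R₁ ≤ H := by
    intro x hx
    have h1 := hgH _ (mem_cs.1 hx)
    have e : g * (g⁻¹ * x * g) * g⁻¹ = x := by group
    rwa [e] at h1
  have hR₁N : ∀ x ∈ R₁, ∀ n ∈ N, x * n = n * x := by
    intro x hx n hn
    have h1 := hRN _ (mem_cs.1 hx) (g⁻¹ * n * g) (by
      rw [hgN]
      have e : g * (g⁻¹ * n * g) * g⁻¹ = n := by group
      rwa [e])
    calc x * n = g * ((g⁻¹ * x * g) * (g⁻¹ * n * g)) * g⁻¹ := by group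
      _ = g * ((g⁻¹ * n * g) * (g⁻¹ * x * g)) * g⁻¹ := by rw [h1]
      _ = n * x := by group
  have hR₁r : ∀ x ∈ R₁, ∃ k : ℕ, x ^ r ^ k = 1 := by
    intro x hx
    obtain ⟨k, hk⟩ := hR₀ ⟨_, mem_cs.1 hx⟩
    refine ⟨k, ?_⟩
    have h1 : (g⁻¹ * x * g) ^ r ^ k = 1 := congrArg Subtype.val hk
    have e : (g⁻¹ * x * g) ^ r ^ k = g⁻¹ * x ^ r ^ k * g := by
      have := conj_pow (i := r ^ k) (a := g⁻¹) (b := x)
      rwa [inv_inv] at this
    rw [e] at h1
    calc x ^ r ^ k = g * (g⁻¹ * x ^ r ^ k * g) * g⁻¹ := by group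
      _ = 1 := by rw [h1]; group
  set T₁ : Subgroup Γ := MulAut.conj (f g * g₁) • T with hT₁
  have hmapR : R₁.map f = MulAut.conj (f g) • R₀.map f := by
    ext y
    rw [mem_cs]
    constructor
    · rintro ⟨x, hx, rfl⟩
      exact ⟨_, mem_cs.1 hx, by simp⟩
    · rintro ⟨x, hx, hxy⟩
      refine ⟨g * x * g⁻¹, cs_mem hx, ?_⟩
      rw [map_mul, map_mul, map_inv, hxy]
      group
  have hreg1 : Reg (R₁.map f) T₁ := by
    rw [hmapR, hT₁, map_mul, mul_smul]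
    exact hreg.conj (f g)
  have hregT : Reg (MulAut.conj (f g * g₁)⁻¹ • R₁.map f) T := by
    have := hreg1.conj (f g * g₁)⁻¹
    rwa [hT₁, smul_smul, ← map_mul, inv_mul_cancel, map_one, one_smul] at this
  -- `R₁` centralises `P`
  have hR₁P : ∀ x ∈ R₁, ∀ y ∈ P, x * y = y * x := by
    intro x hx y hy
    have hfin : Finite ↥(P.map f) := by
      have : Finite (P : Set G) := Set.toFinite _
      exact Set.Finite.to_subtype (Set.Finite.image f (Set.toFinite (P : Set G)))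
    have h1 := hreg1.two (P.map f) hfin (hP2.map f) (by
      rintro _ ⟨a, ha, rfl⟩ _ ⟨b, hb, rfl⟩
      exact ⟨a * b * a⁻¹, hPn a (hR₁H ha) b hb, by simp⟩) (f x) ⟨x, hx, rfl⟩ (f y) ⟨y, hy, rfl⟩
    rw [← map_mul, ← map_mul] at h1
    exact hf h1
  have hR₁leN : R₁ ≤ N := by
    intro x hx
    obtain ⟨k, hk⟩ := hR₁r x hx
    refine mem_of_sup hP2 hPN (m := r ^ k) ?_ hk (hC x (hR₁H hx) (hR₁N x hx) (hR₁P x hx))
    exact (hr.eq_two_or_odd'.resolve_left hr2).pow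
  -- `T₁ = T`
  have hCN : ∀ x, (∀ n ∈ N, x * f n = f n * x) → x ∈ T₁ := by
    intro x hx
    refine hreg1.cent x ?_
    rintro _ ⟨a, ha, rfl⟩
    exact hx a (hR₁leN ha)
  have hTT₁ : T ≤ T₁ := fun x hx => hCN x fun n hn => hTab x hx _ (hNT n hn)
  have hT₁T : T₁ ≤ T := by
    intro x hx
    refine hregT.cent x fun t ht => ?_
    have hTab' : ∀ x ∈ T₁, ∀ y ∈ T₁, x * y = y * x := by
      intro x hx y hy
      have h1 := hTab _ (mem_cs.1 hx) _ (mem_cs.1 hy)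
      set u := f g * g₁
      calc x * y = u * ((u⁻¹ * x * u) * (u⁻¹ * y * u)) * u⁻¹ := by group
        _ = u * ((u⁻¹ * y * u) * (u⁻¹ * x * u)) * u⁻¹ := by rw [h1]
        _ = y * x := by group
    refine hTab' x hx t (hTT₁ ?_)
    -- `t` is in `u⁻¹ R₁ u ≤ u⁻¹ T₁ u = T`
    rw [mem_cs, inv_inv] at ht
    have h1 : f g * g₁ * t * (f g * g₁)⁻¹ ∈ T₁ := by
      obtain ⟨a, ha, hat⟩ := ht
      rw [← hat]
      exact hTT₁ (hNT a (hR₁leN ha))
    rw [hT₁, mem_cs] at h1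
    have e : (f g * g₁)⁻¹ * (f g * g₁ * t * (f g * g₁)⁻¹) * (f g * g₁) = t := by group
    rwa [e] at h1
  have hTeq : T₁ = T := le_antisymm hT₁T hTT₁
  -- `H` normalises `T`
  have hHT : ∀ h ∈ H, ∀ t ∈ T, f h * t * (f h)⁻¹ ∈ T := by
    intro h hh t ht
    rw [← hTeq]
    refine hCN _ fun n hn => ?_
    have h1 := hTab t ht (f (h⁻¹ * n * h)) (hNT _ (by
      have := hNn h⁻¹ (inv_mem hh) n hn
      rwa [inv_inv] at this))
    rw [map_mul, map_mul, map_inv] at h1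
    calc f h * t * (f h)⁻¹ * f n = f h * (t * ((f h)⁻¹ * f n * f h)) * (f h)⁻¹ := by group
      _ = f h * (((f h)⁻¹ * f n * f h) * t) * (f h)⁻¹ := by rw [h1]
      _ = f n * (f h * t * (f h)⁻¹) := by group
  -- the `r`-part of `H ∩ T`
  let K : Subgroup G :=
    { carrier := {x | x ∈ H ∧ f x ∈ T ∧ ∃ k : ℕ, x ^ r ^ k = 1}
      one_mem' := ⟨one_mem _, by rw [map_one]; exact one_mem _, 0, one_pow _⟩
      mul_mem' := by
        rintro a b ⟨ha, ha', k, hk⟩ ⟨hb, hb', j, hj⟩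
        refine ⟨mul_mem ha hb, by rw [map_mul]; exact mul_mem ha' hb', k + j, ?_⟩
        have hcomm : Commute a b := hf (by rw [map_mul, map_mul]; exact hTab _ ha' _ hb')
        rw [hcomm.mul_pow, pow_add, pow_mul, hk, one_pow, one_mul, mul_comm, pow_mul, hj, one_pow]
      inv_mem' := by
        rintro a ⟨ha, ha', k, hk⟩
        refine ⟨inv_mem ha, by rw [map_inv]; exact inv_mem ha', k, ?_⟩
        rw [inv_pow, hk, inv_one] }
  have hKmem : ∀ x, x ∈ K ↔ x ∈ H ∧ f x ∈ T ∧ ∃ k : ℕ, x ^ r ^ k = 1 := fun x => Iff.rfl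
  have hKH : K ≤ H := fun x hx => hx.1
  have hKn : ∀ h ∈ H, ∀ x ∈ K, h * x * h⁻¹ ∈ K := by
    rintro h hh x ⟨hx, hx', k, hk⟩
    refine ⟨mul_mem (mul_mem hh hx) (inv_mem hh), ?_, k, ?_⟩
    · rw [map_mul, map_mul, map_inv]
      exact hHT h hh _ hx'
    · rw [conj_pow, hk, mul_one, mul_inv_cancel]
  have hKr : IsPGroup r K := fun x => by
    obtain ⟨k, hk⟩ := x.2.2.2
    exact ⟨k, Subtype.ext hk⟩
  have hR₁K : R₁ ≤ K := fun x hx => ⟨hR₁H hx, hNT x (hR₁leN hx), hR₁r x hx⟩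
  have hKne : K ≠ ⊥ := by
    intro hK
    apply hna
    have hall : ∀ x : Γ, x ∈ T₁ := fun x => hreg1.cent x (by
      rintro _ ⟨a, ha, rfl⟩
      have : a = 1 := by
        have := hR₁K ha
        rwa [hK, mem_bot] at this
      rw [this, map_one, mul_one, one_mul])
    exact ⟨⟨fun x y => hf (by
      rw [map_mul, map_mul]
      exact hTab _ (hTeq ▸ hall _) _ (hTeq ▸ hall _))⟩⟩
  -- a Sylow `r`-subgroup
  obtain ⟨R, hRH⟩ : ∃ R : Sylow r G, (R : Subgroup G) ≤ H := by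
    obtain ⟨a, ha⟩ := exists_conj_le (K := H) (hH.2 r hr hrπ) (R := ((default : Sylow r G) : Subgroup G))
      (default : Sylow r G).isPGroup'
    refine ⟨a • (default : Sylow r G), fun x hx => ?_⟩
    have hx' : x ∈ MulAut.conj a • ((default : Sylow r G) : Subgroup G) := hx
    have h1 := ha _ (mem_cs.1 hx')
    have e : a * (a⁻¹ * x * a) * a⁻¹ = x := by group
    rwa [e] at h1
  have hKR : K ≤ R := by
    have hidx : ¬ r ∣ ((R : Subgroup G).subgroupOf H).index := fun h =>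
      R.not_dvd_index (h.trans (Dvd.intro _ (relIndex_mul_index hRH)))
    obtain ⟨a, ha⟩ := exists_conj_le hidx (R := K.subgroupOf H)
      (hKr.comap_of_injective H.subtype H.subtype_injective)
    intro x hx
    have h1 := ha ⟨(a : G)⁻¹ * x * a, mul_mem (mul_mem (inv_mem a.2) (hKH hx)) a.2⟩ (by
      have := hKn (a : G)⁻¹ (inv_mem a.2) x hx
      rw [inv_inv] at this
      exact this)
    have h4 : (a : G) * ((a : G)⁻¹ * x * a) * (a : G)⁻¹ ∈ (R : Subgroup G) := h1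
    have e : (a : G) * ((a : G)⁻¹ * x * a) * (a : G)⁻¹ = x := by group
    rwa [e] at h4
  refine good_of_inv hna R K hKR hKne ?_ H hH ?_
  · intro φ hφ
    have hcardeq : Nat.card ↥(φ • K) = Nat.card K := card_smul φ K
    refine eq_of_le_of_card_ge ?_ hcardeq.ge
    intro b hb
    have hφmem : ∀ x, x ∈ φ • K ↔ φ⁻¹ x ∈ K := fun x => by
      rw [Subgroup.mem_pointwise_smul_iff_inv_smul_mem]; rfl
    have hRφ : ∀ x, x ∈ (R : Subgroup G) ↔ φ⁻¹ x ∈ (R : Subgroup G) := fun x => by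
      conv_lhs => rw [← hφ]
      rw [Subgroup.mem_pointwise_smul_iff_inv_smul_mem]; rfl
    have hbR : b ∈ (R : Subgroup G) := (hRφ b).2 (hKR ((hφmem b).1 hb))
    have hKab : ∀ x ∈ K, ∀ y ∈ K, x * y = y * x := fun x hx y hy =>
      hf (by rw [map_mul, map_mul]; exact hTab _ hx.2.1 _ hy.2.1)
    refine ⟨hRH hbR, ?_, ?_⟩
    · rw [← hTeq]
      refine hreg1.quad (f b) (fun t ht => ?_) ?_
      · rw [hTeq] at ht ⊢
        exact hHT b (hRH hbR) t ht
      · rintro _ ⟨s, hs, rfl⟩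
        rw [← map_commutatorElement, ← map_commutatorElement]
        have hsK := hR₁K hs
        have h1 : ⁅s, b⁆ ∈ φ • K := by
          rw [hφmem, map_commutatorElement, commutatorElement_def]
          refine mul_mem ?_ (inv_mem ((hφmem b).1 hb))
          exact hKn _ (hRH ((hRφ s).1 (hKR hsK))) _ ((hφmem b).1 hb)
        have h2' : ⁅⁅s, b⁆, b⁆ = 1 := by
          rw [commutatorElement_eq_one_iff_mul_comm]
          have := hKab _ ((hφmem _).1 h1) _ ((hφmem b).1 hb)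
          rw [← map_mul, ← map_mul] at this
          exact φ⁻¹.injective this
        rw [h2', map_one]
    · obtain ⟨k, hk⟩ := R.isPGroup' ⟨b, hbR⟩
      exact ⟨k, congrArg Subtype.val hk⟩
  · intro h hh
    rw [mem_normalizer_iff]
    intro n
    refine ⟨fun hn => hKn h hh n hn, fun hn => ?_⟩
    have := hKn h⁻¹ (inv_mem hh) _ hn
    have e : h⁻¹ * (h * n * h⁻¹) * h⁻¹⁻¹ = n := by group
    rwa [e] at this

end main

end Cfsg.Agent.H554.BS
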