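import Cfsg.Agent.H554.BS.Sigma
import Cfsg.Agent.H554.BS.Row
import Cfsg.Agent.H167.EX.OneB

/-!
# The regular subgroups centralising `N` (helper554)
-/

set_option autoImplicit false
set_option linter.unusedSectionVars false

namespace Cfsg.Agent.H554.BS

open CoxeterSystem Cfsg Cfsg.Lie Cfsg.Lie.ChevalleyDatum
open Cfsg.Agent.ChevalleyStructure Cfsg.Agent.ChevalleyStructure.Elts Cfsg.Agent.ChevalleyStructure.CoxeterGeom
  Cfsg.Agent.ChevalleyStructure.CoxeterGeomTypes Cfsg.Agent.ChevalleyStructure.NPerm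
open Cfsg.Agent.Tits.Roots Cfsg.Agent.Tits.Core Cfsg.Agent.Nodes Cfsg.Agent.Nodes.Reps Cfsg.Agent.Nodes.BNOf
  Cfsg.Agent.Nodes.RGDChev Cfsg.Agent.Nodes.Bruhat Cfsg.Agent.Nodes.NormalForm
open Cfsg.Agent.KFacts.RgdField Cfsg.Agent.KFacts.RgdChevCoord
open Cfsg.Agent.BpExc Cfsg.Agent.BpExc.TorCent Cfsg.Agent.BpExc.TorChev Cfsg.Agent.BpExc.Tow
  Cfsg.Agent.BpExc.TowChev Cfsg.Agent.BpExc.Fr Cfsg.Agent.BpExc.Pair Cfsg.Agent.BpExc.LangFr Cfsg.Agent.GpExc.Field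
  Cfsg.Agent.BpExc.TorAll
open Cfsg.Agent.H469.Exc Cfsg.Agent.H469.Exc.SigFr
open Cfsg.Agent.Nodes.RGDFoldSL
open Cfsg.Agent.ChevalleyStructure.SL2Hom (up lo mem_closure_SL2)
open Cfsg.Agent.H167.EX Cfsg.Agent.H795.LangT Cfsg.Agent.H129.TorusChar
open scoped commutatorElement Pointwise

universe u v

section power

variable {k : Type u} [Field k]

theorem zpow_of_dvd {c : k} (hc : c ≠ 0) {n : ℕ} (hn : c ^ n = 1) {a b : ℤ} (h : (n : ℤ) ∣ a - b) : c ^ a = c ^ b := by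
  obtain ⟨m, hm⟩ := h
  have h1 : a = b + n * m := by linarith
  rw [h1, zpow_add₀ hc, zpow_mul, zpow_natCast, hn, one_zpow, mul_one]

theorem dvd_of_zpow {c : k} (hc0 : c ≠ 0) (hc : c ≠ 1) {r : ℕ} (hr : r.Prime) (hcr : c ^ r = 1) {a b : ℤ} (h : c ^ a = c ^ b) :
    (r : ℤ) ∣ a - b := by
  have := Fact.mk hr
  have h1 : orderOf (Units.mk0 c hc0) = r := by
    refine orderOf_eq_prime ?_ ?_
    · apply Units.ext
      simpa using hcr
    · intro h2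
      apply hc
      have h3 := congrArg Units.val h2
      simpa using h3
  rw [← h1, orderOf_dvd_iff_zpow_eq_one, zpow_sub, mul_inv_eq_one]
  apply Units.ext
  simpa using h

end power

variable {D : ChevalleyDatum} {l : ℕ} {M : CoxeterMatrix (Fin l)} {hp : IsType D l M} {k : Type u} [Field k]
  {hk : LocFin k} {p : ℕ} [Fact p.Prime] [CharP k p]

/-- a regular subgroup of fixed points centralising `N` -/
theorem hR_core [IsAlgClosed k] {G : Type v} [Group G] {f : G →* ↥(D.group k)} (hf : Function.Injective f)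
    {σ : MulAut ↥(D.group k)} {r : ℕ} (hr : r.Prime) (h5 : 5 ≤ r)
    (hmem : ∀ y, σ y = y → y ^ r = 1 → ∃ x, f x = y) (h2 : (2 : k) ≠ 0) (h0 : 0 < D.nroots)
    {Om : Subgroup ↥(D.group k)} (hO : OmOK hp hk p r Om) {z : ↥(D.group k)}
    (hfix : ∀ t ∈ Om, σ (z * t * z⁻¹) = z * t * z⁻¹) {N : Subgroup G}
    (hcomm : ∀ t ∈ Om, ∀ n ∈ N, z * t * z⁻¹ * f n = f n * (z * t * z⁻¹)) :
    ∃ R₀ : Subgroup G, IsPGroup r R₀ ∧ (∀ x ∈ R₀, ∀ n ∈ N, x * n = n * x) ∧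
        ∃ g₁ : ↥(D.group k), Reg (R₀.map f) (MulAut.conj g₁ • TT D k) := by
  refine ⟨(MulAut.conj z • Om).comap f, ?_, ?_, z, ?_⟩
  · rintro ⟨a, ha⟩
    refine ⟨1, Subtype.ext ?_⟩
    show a ^ r ^ 1 = 1
    rw [pow_one]
    apply hf
    have h1 := hO.exp _ (mem_cs.1 (Subgroup.mem_comap.1 ha))
    have e : z⁻¹ * f a * z = z⁻¹ * f a * z⁻¹⁻¹ := by rw [inv_inv]
    rw [e, conj_pow] at h1
    rw [map_pow, map_one]
    calc f a ^ r = z * (z⁻¹ * f a ^ r * z⁻¹⁻¹) * z⁻¹ := by group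
      _ = 1 := by rw [h1]; group
  · intro x hx n hn
    apply hf
    rw [map_mul, map_mul]
    have h1 := hcomm _ (mem_cs.1 (Subgroup.mem_comap.1 hx)) n hn
    have e : z * (z⁻¹ * f x * z) * z⁻¹ = f x := by group
    rwa [e] at h1
  · have h1 : ((MulAut.conj z • Om).comap f).map f = MulAut.conj z • Om := by
      rw [Subgroup.map_comap_eq, inf_eq_right]
      intro y hy
      have hy' := mem_cs.1 hy
      have e : z * (z⁻¹ * y * z) * z⁻¹ = y := by group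
      have h2 := hfix _ hy'
      rw [e] at h2
      refine hmem y h2 ?_
      have h3 := hO.exp _ hy'
      have e2 : z⁻¹ * y * z = z⁻¹ * y * z⁻¹⁻¹ := by rw [inv_inv]
      rw [e2, conj_pow] at h3
      calc y ^ r = z * (z⁻¹ * y ^ r * z⁻¹⁻¹) * z⁻¹ := by group
        _ = 1 := by rw [h3]; group
    rw [h1]
    exact (hO.reg h2 hr h5 h0).conj z

section Twist

variable (hp) [IsAlgClosed k] {σ : MulAut ↥(D.group k)} {Q : ℕ} {z : ↥(D.group k)} {R : (Fin l → ℤ) → (Fin l → ℤ)}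

/-- toral elements of order dividing `Q - ε` are fixed in the split case -/
theorem fixed_split (hiff : ∀ h ∈ TT D k, (σ (z * h * z⁻¹) = z * h * z⁻¹ ↔ ∀ x, cX hp h (R x) ^ Q = cX hp h x))
    {ε : ℤ} (hε : ε * ε = 1) (hR : ∀ x, R x = ε • x) {n : ℕ} (hn : (n : ℤ) ∣ (Q : ℤ) - ε) {h : ↥(D.group k)}
    (hh : h ∈ TT D k) (hhn : h ^ n = 1) : σ (z * h * z⁻¹) = z * h * z⁻¹ := by
  refine (hiff h hh).2 fun x => ?_
  have hMC := isMC_cX hp hh
  have h0 := hMC.ne_zero x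
  rw [hR, hMC.zsmul, ← zpow_natCast, ← zpow_mul]
  have h1 : cX hp h x ^ n = 1 := by rw [← cX_pow hp hh, hhn, cX_one]
  have h2 := zpow_of_dvd h0 h1 (a := ε * Q) (b := 1) (by
    have : ε * (Q : ℤ) - 1 = ε * ((Q : ℤ) - ε) := by rw [mul_sub, hε]
    rw [this]
    exact hn.mul_left ε)
  rw [h2, zpow_one]

/-- `ph (hS c)`, `c ^ n = 1`, `n ∣ Q - ε`, is fixed -/
theorem fixed_ph (hk : LocFin k)
    (hiff : ∀ h ∈ TT D k, (σ (z * h * z⁻¹) = z * h * z⁻¹ ↔ ∀ x, cX hp h (R x) ^ Q = cX hp h x))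
    {ε : ℤ} (hε : ε * ε = 1) {s : ℕ} (hs : s < D.nroots) (p : ℕ) [Fact p.Prime] [CharP k p]
    (hR : ∀ x, fs D l s (R x) = ε * fs D l s x) {n : ℕ}
    (hn : (n : ℤ) ∣ (Q : ℤ) - ε) {c : k} (hc : c ≠ 0) (hcn : c ^ n = 1) :
    σ (z * ph hp k hs (hS c) * z⁻¹) = z * ph hp k hs (hS c) * z⁻¹ := by
  refine (hiff _ (ph_hS_mem hp hs hc)).2 fun x => ?_
  rw [cX_ph_hS hp hk hs p hc, cX_ph_hS hp hk hs p hc, hR, ← zpow_natCast, ← zpow_mul]
  refine zpow_of_dvd hc hcn ?_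
  have : ε * fs D l s x * (Q : ℤ) - fs D l s x = ε * fs D l s x * ((Q : ℤ) - ε) := by
    have : ε * fs D l s x * ((Q : ℤ) - ε) = ε * fs D l s x * (Q : ℤ) - (ε * ε) * fs D l s x := by ring
    rw [this, hε, one_mul]
  rw [this]
  exact hn.mul_left _

end Twist

section N

variable (hp) [IsAlgClosed k] {G : Type v} [Group G] [Finite G] {f : G →* ↥(D.group k)} (hf : Function.Injective f)
    {σ : MulAut ↥(D.group k)} {Q : ℕ} {z : ↥(D.group k)} {R : (Fin l → ℤ) → (Fin l → ℤ)} (hfx : ∀ x, σ (f x) = f x)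
    (hiff : ∀ h ∈ TT D k, (σ (z * h * z⁻¹) = z * h * z⁻¹ ↔ ∀ x, cX hp h (R x) ^ Q = cX hp h x))

include hfx hiff in
theorem cX_N {n : G} (hn : z⁻¹ * f n * z ∈ TT D k) (x : Fin l → ℤ) :
    cX hp (z⁻¹ * f n * z) (R x) ^ Q = cX hp (z⁻¹ * f n * z) x := by
  have h1 := (hiff _ hn).1 (by
    have e : z * (z⁻¹ * f n * z) * z⁻¹ = f n := by group
    rw [e]
    exact hfx n)
  exact h1 x

include hf in
/-- a nontrivial element of prime order has a nontrivial character -/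
theorem exists_sr {r : ℕ} {n : G} (hn : z⁻¹ * f n * z ∈ TT D k) (hn1 : n ≠ 1) (hnr : n ^ r = 1) :
    ∃ j : Fin l, cX hp (z⁻¹ * f n * z) (sr j) ≠ 1 ∧ cX hp (z⁻¹ * f n * z) (sr j) ^ r = 1 := by
  by_contra hcon
  push Not at hcon
  have hpow : (z⁻¹ * f n * z) ^ r = 1 := by
    have e : z⁻¹ * f n * z = z⁻¹ * f n * z⁻¹⁻¹ := by rw [inv_inv]
    rw [e, conj_pow, ← map_pow, hnr, map_one]
    group
  have h2 : ∀ j : Fin l, cX hp (z⁻¹ * f n * z) (sr j) ^ r = 1 := fun j => by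
    rw [← cX_pow hp hn, hpow, cX_one]
  have h3 : z⁻¹ * f n * z = 1 := by
    refine cX_inj hp hn (one_mem _) fun j => ?_
    rw [cX_one]
    by_contra h4
    exact hcon j h4 (h2 j)
  apply hn1
  apply hf
  rw [map_one]
  calc f n = z * (z⁻¹ * f n * z) * z⁻¹ := by group
    _ = 1 := by rw [h3]; group

include hf hfx hiff in
/-- **The split case.** -/
theorem hR_split {hk : LocFin k} (h2 : (2 : k) ≠ 0) (h0 : 0 < D.nroots) {ε : ℤ} (hε : ε * ε = 1) (hRx : ∀ x, R x = ε • x)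
    (hmem : ∀ q : ℕ, q.Prime → 5 ≤ q → q ≠ p → ∀ y, σ y = y → y ^ q = 1 → ∃ x, f x = y)
    {Om : ℕ → Subgroup ↥(D.group k)} (hOmem : ∀ q t, t ∈ Om q ↔ t ∈ TT D k ∧ t ^ q = 1)
    (hO : ∀ q : ℕ, q.Prime → 5 ≤ q → q ≠ p → OmOK hp hk p q (Om q))
    {N : Subgroup G} (hN : N ≠ ⊥) (hNT : ∀ n ∈ N, z⁻¹ * f n * z ∈ TT D k)
    (hNp : ∀ r, r.Prime → r ∣ Nat.card N → 5 ≤ r ∧ r ≠ p) :
    ∃ r, r.Prime ∧ r ∣ Nat.card N ∧ ∃ R₀ : Subgroup G, IsPGroup r R₀ ∧ (∀ x ∈ R₀, ∀ n ∈ N, x * n = n * x) ∧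
        ∃ g₁ : ↥(D.group k), Reg (R₀.map f) (MulAut.conj g₁ • TT D k) := by
  have hcard : Nat.card N ≠ 1 := fun h => hN (Subgroup.card_eq_one.1 h)
  obtain ⟨r, hr, hrN⟩ := Nat.exists_prime_and_dvd hcard
  obtain ⟨h5, hrp⟩ := hNp r hr hrN
  have := Fact.mk hr
  obtain ⟨n, hn⟩ := exists_prime_orderOf_dvd_card' (G := N) r hrN
  have hn1 : (n : G) ≠ 1 := by
    intro h
    have h1 : n = 1 := Subtype.ext h
    rw [h1, orderOf_one] at hn
    exact hr.one_lt.ne hn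
  have hnr : (n : G) ^ r = 1 := by
    have h1 : n ^ r = 1 := by rw [← hn]; exact pow_orderOf_eq_one n
    exact congrArg Subtype.val h1
  obtain ⟨j, hj1, hjr⟩ := exists_sr hp hf (hNT n n.2) hn1 hnr
  have hMC := isMC_cX hp (hNT n n.2)
  have h3 := cX_N hp hfx hiff (hNT n n.2) (sr j)
  rw [hRx, hMC.zsmul, ← zpow_natCast, ← zpow_mul] at h3
  have h4 := dvd_of_zpow (hMC.ne_zero _) hj1 hr hjr (a := ε * Q) (b := 1) (by rw [h3, zpow_one])
  have h5' : (r : ℤ) ∣ (Q : ℤ) - ε := by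
    have h6 : (Q : ℤ) - ε = ε * (ε * Q - 1) := by rw [mul_sub, ← mul_assoc, hε, one_mul, mul_one]
    rw [h6]
    exact h4.mul_left ε
  refine ⟨r, hr, hrN, hR_core hf hr h5 (hmem r hr h5 hrp) h2 h0 (hO r hr h5 hrp) (z := z) ?_ ?_⟩
  · intro t ht
    obtain ⟨ht1, ht2⟩ := (hOmem r t).1 ht
    exact fixed_split hp hiff hε hRx h5' ht1 ht2
  · intro t ht n hn
    obtain ⟨ht1, -⟩ := (hOmem r t).1 ht
    have h6 := TTab hp t ht1 _ (hNT n hn)
    calc z * t * z⁻¹ * f n = z * (t * (z⁻¹ * f n * z)) * z⁻¹ := by group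
      _ = z * ((z⁻¹ * f n * z) * t) * z⁻¹ := by rw [h6]
      _ = f n * (z * t * z⁻¹) := by group

include hf hfx hiff in
/-- **The case of `E₆`.** -/
theorem hR_six {hk : LocFin k} (h2 : (2 : k) ≠ 0) (h0 : 0 < D.nroots) {ε : ℤ} (hε : ε * ε = 1)
    (hmem : ∀ q : ℕ, q.Prime → 5 ≤ q → q ≠ p → ∀ y, σ y = y → y ^ q = 1 → ∃ x, f x = y)
    {z' : ↥(D.group k)} {R' : (Fin l → ℤ) → (Fin l → ℤ)}
    (hiff' : ∀ h ∈ TT D k, (σ (z' * h * z'⁻¹) = z' * h * z'⁻¹ ↔ ∀ x, cX hp h (R' x) ^ Q = cX hp h x))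
    {L0 L1 : List ℕ} (hL1 : ∀ s ∈ L1, s < D.nroots)
    (ha : ∀ s ∈ L0, ∀ x, fs D l s (R x) = ε * fs D l s x) (ha' : ∀ s ∈ L0, ∀ x, fs D l s (R' x) = -ε * fs D l s x)
    (hb : ∀ s ∈ L1, R (vec D l s) = ε • vec D l s) (hc : ∀ x, R (R x) = x)
    (hz : ∀ t ∈ TT D k, (∀ s ∈ L1, ch hp (vec D l s) t = 1) → z * t = t * z)
    (hz' : ∀ t ∈ TT D k, (∀ s ∈ L1, ch hp (vec D l s) t = 1) → z' * t = t * z')
    {Om : ℕ → Subgroup ↥(D.group k)} (hOmem : ∀ q, Om q ≤ Subgroup.closure {y | ∃ s, ∃ (hs : s < D.nroots) (c : k),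
      s ∈ L0 ∧ c ^ q = 1 ∧ y = ph hp k hs (hS c)})
    (hO : ∀ q : ℕ, q.Prime → 5 ≤ q → q ≠ p → OmOK hp hk p q (Om q))
    {N : Subgroup G} (hN : N ≠ ⊥) (hNT : ∀ n ∈ N, z⁻¹ * f n * z ∈ TT D k)
    (hNp : ∀ r, r.Prime → r ∣ Nat.card N → 5 ≤ r ∧ r ≠ p) :
    ∃ r, r.Prime ∧ r ∣ Nat.card N ∧ ∃ R₀ : Subgroup G, IsPGroup r R₀ ∧ (∀ x ∈ R₀, ∀ n ∈ N, x * n = n * x) ∧
        ∃ g₁ : ↥(D.group k), Reg (R₀.map f) (MulAut.conj g₁ • TT D k) := by
  -- generic facts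
  have hfixOm : ∀ (z₀ : ↥(D.group k)) (R₀ : (Fin l → ℤ) → (Fin l → ℤ)) (ε₀ : ℤ), ε₀ * ε₀ = 1 →
      (∀ h ∈ TT D k, (σ (z₀ * h * z₀⁻¹) = z₀ * h * z₀⁻¹ ↔ ∀ x, cX hp h (R₀ x) ^ Q = cX hp h x)) →
      (∀ s ∈ L0, ∀ x, fs D l s (R₀ x) = ε₀ * fs D l s x) → ∀ r : ℕ, r.Prime → (r : ℤ) ∣ (Q : ℤ) - ε₀ →
      ∀ t ∈ Om r, σ (z₀ * t * z₀⁻¹) = z₀ * t * z₀⁻¹ := by
    intro z₀ R₀ ε₀ hε₀ hi hs₀ r hr hrQ t ht
    have h1 : t ∈ (σ.toMonoidHom.eqLocus (MonoidHom.id _)).comap (MulAut.conj z₀).toMonoidHom := by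
      refine (Subgroup.closure_le _).2 ?_ (hOmem r ht)
      rintro _ ⟨s, hs, c, hsL, hc, rfl⟩
      have hc0 : c ≠ 0 := by
        rintro rfl
        rw [zero_pow hr.ne_zero] at hc
        exact zero_ne_one hc
      exact fixed_ph hp hk hi hε₀ hs p (hs₀ s hsL) hrQ hc0 hc
    exact h1
  have hcard : Nat.card N ≠ 1 := fun h => hN (Subgroup.card_eq_one.1 h)
  by_cases hcase : ∃ r, r.Prime ∧ r ∣ Nat.card N ∧ (r : ℤ) ∣ (Q : ℤ) - ε
  · obtain ⟨r, hr, hrN, hrQ⟩ := hcase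
    obtain ⟨h5, hrp⟩ := hNp r hr hrN
    refine ⟨r, hr, hrN, hR_core hf hr h5 (hmem r hr h5 hrp) h2 h0 (hO r hr h5 hrp) (z := z)
      (hfixOm z R ε hε hiff ha r hr hrQ) ?_⟩
    intro t ht n hn
    have h6 := TTab hp t ((hO r hr h5 hrp).le ht) _ (hNT n hn)
    calc z * t * z⁻¹ * f n = z * (t * (z⁻¹ * f n * z)) * z⁻¹ := by group
      _ = z * ((z⁻¹ * f n * z) * t) * z⁻¹ := by rw [h6]
      _ = f n * (z * t * z⁻¹) := by group
  · push Not at hcase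
    obtain ⟨r, hr, hrN⟩ := Nat.exists_prime_and_dvd hcard
    obtain ⟨h5, hrp⟩ := hNp r hr hrN
    have := Fact.mk hr
    obtain ⟨n, hn⟩ := exists_prime_orderOf_dvd_card' (G := N) r hrN
    have hn1 : (n : G) ≠ 1 := by
      intro h
      have h1 : n = 1 := Subtype.ext h
      rw [h1, orderOf_one] at hn
      exact hr.one_lt.ne hn
    have hnr : (n : G) ^ r = 1 := by
      have h1 : n ^ r = 1 := by rw [← hn]; exact pow_orderOf_eq_one n
      exact congrArg Subtype.val h1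
    obtain ⟨j, hj1, hjr⟩ := exists_sr hp hf (hNT n n.2) hn1 hnr
    have hMC := isMC_cX hp (hNT n n.2)
    have h3 : cX hp (z⁻¹ * f n * z) (sr j) ^ (Q ^ 2) = cX hp (z⁻¹ * f n * z) (sr j) := by
      have h4 := cX_N hp hfx hiff (hNT n n.2) (R (sr j))
      have h5 := cX_N hp hfx hiff (hNT n n.2) (sr j)
      rw [hc] at h4
      rw [← h4] at h5
      rwa [← pow_mul, ← pow_two] at h5
    have h4 := dvd_of_zpow (hMC.ne_zero _) hj1 hr hjr (a := ((Q ^ 2 : ℕ) : ℤ)) (b := 1) (by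
      rw [zpow_natCast, h3, zpow_one])
    have h5' : (r : ℤ) ∣ (Q : ℤ) - -ε := by
      have h6 : ((Q ^ 2 : ℕ) : ℤ) - 1 = ((Q : ℤ) - ε) * ((Q : ℤ) - -ε) := by
        push_cast
        have : ((Q : ℤ) - ε) * ((Q : ℤ) - -ε) = (Q : ℤ) ^ 2 - ε * ε := by ring
        rw [this, hε]
      rw [h6] at h4
      rcases (Nat.prime_iff_prime_int.1 hr).dvd_or_dvd h4 with h7 | h7
      · exact absurd h7 (hcase r hr hrN)
      · exact h7
    -- `f N` is in `Z₀`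
    have hZ : ∀ n ∈ N, ∀ s ∈ L1, ch hp (vec D l s) (z⁻¹ * f n * z) = 1 := by
      intro n hn s hs
      have hMC := isMC_cX hp (hNT n hn)
      have h7 := cX_N hp hfx hiff (hNT n hn) (vec D l s)
      rw [hb s hs, hMC.zsmul, ← zpow_natCast, ← zpow_mul] at h7
      rw [← cX_vec hp (hNT n hn) (hL1 s hs)]
      by_contra hne
      have h0' := hMC.ne_zero (vec D l s)
      set c := cX hp (z⁻¹ * f n * z) (vec D l s) with hcdef
      have hcN : c ^ Nat.card N = 1 := by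
        have h8 : n ^ Nat.card N = 1 := by
          have := pow_card_eq_one' (x := (⟨n, hn⟩ : N))
          exact congrArg Subtype.val this
        have h9 : (z⁻¹ * f n * z) ^ Nat.card N = 1 := by
          have e : z⁻¹ * f n * z = z⁻¹ * f n * z⁻¹⁻¹ := by rw [inv_inv]
          rw [e, conj_pow, ← map_pow, h8, map_one]
          group
        rw [hcdef, ← cX_pow hp (hNT n hn), h9, cX_one]
      -- the order of `c`
      let u : kˣ := Units.mk0 c h0'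
      have hu1 : orderOf u ∣ Nat.card N := orderOf_dvd_of_pow_eq_one (by apply Units.ext; simpa [u] using hcN)
      have hu0 : orderOf u ≠ 1 := by
        intro h10
        rw [orderOf_eq_one_iff] at h10
        apply hne
        have h11 := congrArg Units.val h10
        simpa [u] using h11
      obtain ⟨r', hr', hr'u⟩ := Nat.exists_prime_and_dvd hu0
      refine hcase r' hr' (hr'u.trans hu1) ?_
      have h12 : ((orderOf u : ℕ) : ℤ) ∣ ε * Q - 1 := by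
        rw [orderOf_dvd_iff_zpow_eq_one, zpow_sub, zpow_one, mul_inv_eq_one]
        apply Units.ext
        simpa [u] using h7
      have h13 : (Q : ℤ) - ε = ε * (ε * Q - 1) := by rw [mul_sub, ← mul_assoc, hε, one_mul, mul_one]
      rw [h13]
      exact ((Int.natCast_dvd_natCast.2 hr'u).trans h12).mul_left ε
    refine ⟨r, hr, hrN, hR_core hf hr h5 (hmem r hr h5 hrp) h2 h0 (hO r hr h5 hrp) (z := z')
      (hfixOm z' R' (-ε) (by rw [neg_mul_neg, hε]) hiff' ha' r hr h5') ?_⟩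
    intro t ht n hn
    set h := z⁻¹ * f n * z with hh
    have h8 := hz h (hNT n hn) (hZ n hn)
    have h9 := hz' h (hNT n hn) (hZ n hn)
    have h10 : f n = h := by
      calc f n = (z * h) * z⁻¹ := by rw [hh]; group
        _ = h := by rw [h8]; group
    have h11 : t * h = h * t := TTab hp t ((hO r hr h5 hrp).le ht) _ (hNT n hn)
    rw [h10]
    have h12 : z'⁻¹ * h = h * z'⁻¹ := by
      calc z'⁻¹ * h = z'⁻¹ * (h * z') * z'⁻¹ := by group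
        _ = z'⁻¹ * (z' * h) * z'⁻¹ := by rw [h9]
        _ = h * z'⁻¹ := by group
    calc z' * t * z'⁻¹ * h = z' * t * (z'⁻¹ * h) := by group
      _ = z' * (t * h) * z'⁻¹ := by rw [h12]; group
      _ = (z' * h) * t * z'⁻¹ := by rw [h11]; group
      _ = h * (z' * t * z'⁻¹) := by rw [h9]; group

end N

end Cfsg.Agent.H554.BS
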