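import Cfsg.Agent.H554.BS.Abs
import Cfsg.Agent.H554.BS.Gen
import Cfsg.Agent.H554.BS.TwoCore
import Cfsg.Agent.H167.EX.Set
import Cfsg.Agent.H795.LangT

/-!
# Regular toral `q`-subgroups of `D.group k` (helper554)
-/

set_option autoImplicit false
set_option linter.unusedSectionVars false

namespace Cfsg.Agent.H554.BS

open CoxeterSystem Cfsg Cfsg.Lie Cfsg.Lie.ChevalleyDatum
open Cfsg.Agent.ChevalleyStructure Cfsg.Agent.ChevalleyStructure.Elts Cfsg.Agent.ChevalleyStructure.CoxeterGeom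
  Cfsg.Agent.ChevalleyStructure.CoxeterGeomTypes Cfsg.Agent.ChevalleyStructure.NPerm
open Cfsg.Agent.Tits.Roots Cfsg.Agent.Tits.Core Cfsg.Agent.Nodes Cfsg.Agent.Nodes.Reps Cfsg.Agent.Nodes.BNOf
  Cfsg.Agent.Nodes.RGDChev Cfsg.Agent.Nodes.Bruhat Cfsg.Agent.Nodes.NormalForm
open Cfsg.Agent.KFacts.RgdField Cfsg.Agent.KFacts.RgdChevCoord
open Cfsg.Agent.BpExc Cfsg.Agent.BpExc.TorCent Cfsg.Agent.BpExc.TorChev Cfsg.Agent.BpExc.Tow
  Cfsg.Agent.BpExc.TowChev Cfsg.Agent.BpExc.Fr Cfsg.Agent.BpExc.Pair Cfsg.Agent.BpExc.LangFr Cfsg.Agent.GpExc.Field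
  Cfsg.Agent.BpExc.TorAll
open Cfsg.Agent.H469.Exc Cfsg.Agent.H469.Exc.SigFr
open Cfsg.Agent.Nodes.RGDFoldSL
open Cfsg.Agent.ChevalleyStructure.SL2Hom (up lo mem_closure_SL2)
open Cfsg.Agent.H167.EX Cfsg.Agent.H795.LangT Cfsg.Agent.H129.TorusChar
open scoped commutatorElement Pointwise

universe u v

variable {D : ChevalleyDatum} {l : ℕ} {M : CoxeterMatrix (Fin l)} (hp : IsType D l M) {k : Type u} [Field k]
  (hk : LocFin k) {p : ℕ} [Fact p.Prime] [CharP k p]

/-- combinatorial conditions on a toral `q`-group `Om` -/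
structure OmOK (p : ℕ) [Fact p.Prime] [CharP k p] (q : ℕ) (Om : Subgroup ↥(D.group k)) : Prop where
  le : Om ≤ TT D k
  fin : Finite Om
  exp : ∀ h ∈ Om, h ^ q = 1
  noroot : ∀ r < D.nroots, ∃ h ∈ Om, ch hp (vec D l r) h ≠ 1
  hyper : ∀ R : Subgroup ↥(D.group k), R ≤ Om → PairP q Om R →
    ∃ (w : M.Group) (s s' : ℕ) (_ : POK D s s'), ∀ a, IsRoot M.toCoxeterSystem hp.isCartan a →
      (∀ h ∈ R, ch hp a h = 1) → ∃ r, (r = s ∨ r = D.neg s ∨ r = s' ∨ r = D.neg s') ∧
        rep M.toCoxeterSystem hp.isCartan w a = vec D l r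
  quad : ∀ w b, Rp M.toCoxeterSystem (tow hp M.toCoxeterSystem hk p).nsys w b → (∀ t ∈ Om, ⁅⁅t, b⁆, b⁆ = 1) → w = 1

variable {hp hk} {q : ℕ} {Om : Subgroup ↥(D.group k)}

theorem TTab (hp : IsType D l M) : ∀ x ∈ TT D k, ∀ y ∈ TT D k, x * y = y * x := TT_comm hp (K := k)

/-- **Regularity.** -/
theorem OmOK.reg [IsAlgClosed k] (h2 : (2 : k) ≠ 0) (hq : q.Prime) (h5 : 5 ≤ q) (hO : OmOK hp hk p q Om)
    (h0 : 0 < D.nroots) : Reg Om (TT D k) := by
  classical
  have hWf := finite_W hp (M.toCoxeterSystem)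
  have H := tow hp M.toCoxeterSystem hk p
  have C : Coords M.toCoxeterSystem hp.isCartan (TL (Tj hp (k := k))) (nc hp k) (XL (Xj hp)) (xc hp) (ch hp) := by
    rw [TL_eq hp hk, XL_eq hp hk]
    exact coordsL hp M.toCoxeterSystem hk p
  have hGt := GG_eq_top hp M.toCoxeterSystem hk
  have hTL := TL_eq (k := k) hp hk
  refine ⟨?_, ?_, ?_⟩
  · -- the centraliser
    intro x hx
    have := hO.fin
    obtain ⟨m, hm, w, n, hn, hnZ, e⟩ := H795.SetCent.exists_form_centralizer H C hGt (Z := (Om : Set ↥(D.group k)))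
      (Set.toFinite _) (fun t ht => by rw [hTL]; exact hO.le ht) (c := x) (fun t ht => hx t ht)
    have hS : H795.SetCent.SxZ M.toCoxeterSystem hp.isCartan (ch hp) (Om : Set ↥(D.group k)) = ∅ := by
      rw [Set.eq_empty_iff_forall_notMem]
      intro a ha
      obtain ⟨r, hr, rfl⟩ := (isRoot_iff hp M.toCoxeterSystem a).1 ha.1
      obtain ⟨h, hh, hne⟩ := hO.noroot r hr
      exact hne (ha.2 h hh)
    have hm1 : m = 1 := by
      have h1 : H795.SetCent.MMZ M.toCoxeterSystem hp.isCartan (XL (Xj hp (k := k))) (ch hp) (Om : Set ↥(D.group k)) ≤ ⊥ := by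
        refine RGD.Sup_le fun a ha => ?_
        rw [hS] at ha
        exact absurd ha (Set.notMem_empty a)
      exact Subgroup.mem_bot.1 (h1 hm)
    rw [hm1, one_mul] at e
    have hw : w = 1 := hO.quad w n hn fun t ht => by
      have h3 : ⁅t, n⁆ = 1 := by rw [commutatorElement_eq_one_iff_mul_comm]; exact (hnZ t ht).symm
      rw [h3, commutatorElement_one_left]
    subst hw
    have := hn.mem_of_one
    rw [hTL] at this
    rw [e]
    exact this
  · -- quadratic action
    intro b hb hquad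
    obtain ⟨w, hw⟩ := exists_rp_of_normalizes hp hk (r := p) hb
    have hw1 := hO.quad w b hw hquad
    subst hw1
    have := hw.mem_of_one
    rwa [hTL] at this
  · -- two-groups
    intro P hPfin hP2 hn
    have hne : Om ≠ ⊥ := by
      intro h
      obtain ⟨g, hg, hg1⟩ := hO.noroot 0 h0
      rw [h, Subgroup.mem_bot] at hg
      rw [hg] at hg1
      exact hg1 (ch_one hp p hk h0)
    have hab : ∀ x ∈ Om, ∀ y ∈ Om, x * y = y * x := fun x hx y hy => TTab hp x (hO.le hx) y (hO.le hy)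
    have key : P ≤ Subgroup.centralizer (Om : Set ↥(D.group k)) := by
      refine gen_fix hq (by omega) hab hO.exp hO.fin hne hPfin hP2 hn fun R hR hpair x hx hxR => ?_
      obtain ⟨w, s, s', hs, hroots⟩ := hO.hyper R hR hpair
      obtain ⟨n, hnw⟩ := exists_rp M.toCoxeterSystem (tow hp M.toCoxeterSystem hk p).nsys w
      -- the fixed points of `R` on `P`
      let P₁ : Subgroup ↥(D.group k) := P ⊓ Subgroup.centralizer (R : Set ↥(D.group k))
      have hP₁P : P₁ ≤ P := inf_le_left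
      have hP₁2 : IsPGroup 2 ↥P₁ := hP2.to_le hP₁P
      have hnn : ∀ t ∈ Om, ∀ x ∈ P₁, t * x * t⁻¹ ∈ P₁ := by
        intro t ht x hx0
        obtain ⟨hx, hx'⟩ := Subgroup.mem_inf.1 hx0
        rw [Subgroup.mem_centralizer_iff] at hx'
        refine Subgroup.mem_inf.2 ⟨hn t ht x hx, Subgroup.mem_centralizer_iff.2 ?_⟩
        intro r hr
        have h3 := hx' r hr
        have h4 := hab r (hR hr) t ht
        calc r * (t * x * t⁻¹) = (r * t) * x * t⁻¹ := by group
          _ = t * (r * x) * t⁻¹ := by rw [h4]; group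
          _ = t * (x * r) * t⁻¹ := by rw [h3]
          _ = t * x * t⁻¹ * (t * r * t⁻¹) := by group
          _ = t * x * t⁻¹ * r := by rw [← h4]; group
      -- `n P₁ n⁻¹ ≤ MG`
      have hMG : ∀ x ∈ P₁, n * x * n⁻¹ ∈ MG hp (k := k) hs := by
        intro x hx
        obtain ⟨m, hm⟩ := pow_mem_set hp hk p (S := (R : Set ↥(D.group k))) (fun t ht => hO.le (hR ht)) hq
          (fun t ht => ⟨1, by rw [pow_one]; exact hO.exp t (hR ht)⟩) (g := x)
          (fun t ht => ((Subgroup.mem_centralizer_iff.1 hx.2) t ht).symm)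
        have hle : SetC.MMs M.toCoxeterSystem hp.isCartan (XX D l k) (ch hp) (R : Set ↥(D.group k)) ⊔ TT D k ≤
            (MG hp (k := k) hs).comap (MulAut.conj n).toMonoidHom := by
          refine sup_le (RGD.Sup_le fun a ha => ?_) ?_
          · obtain ⟨r, hr, hra⟩ := hroots a ha.1 ha.2
            intro y hy
            show n * y * n⁻¹ ∈ MG hp (k := k) hs
            refine X_le_MG hp hs hr ?_
            rw [← hra]
            have hF := Fr.conj H hnw
            have h3 := (hF.map a ha.1 y).2 (by rw [XL_eq hp hk]; exact hy)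
            rw [XL_eq hp hk] at h3
            exact h3
          · intro t ht
            exact TT_le_MG hp hs p hk (rp_conj_mem hp hk hnw ht)
        have h3 := hle hm
        have h4 : n * (x ^ q ^ m) * n⁻¹ ∈ MG hp (k := k) hs := h3
        have hcop : Nat.Coprime (orderOf (n * x * n⁻¹)) (q ^ m) := by
          refine Nat.Coprime.pow_right m ?_
          obtain ⟨j, hj⟩ := hP₁2 ⟨x, hx⟩
          have h6 : (n * x * n⁻¹) ^ 2 ^ j = 1 := by
            rw [conj_pow, show x ^ 2 ^ j = 1 from congrArg Subtype.val hj, mul_one, mul_inv_cancel]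
          refine Nat.Coprime.coprime_dvd_left (orderOf_dvd_of_pow_eq_one h6) ?_
          exact Nat.Coprime.pow_left _ ((Nat.coprime_primes Nat.prime_two hq).2 (by omega))
        have h5 : n * x * n⁻¹ ∈ Subgroup.zpowers ((n * x * n⁻¹) ^ q ^ m) := mem_zpowers_pow_iff.2 hcop.symm
        rw [conj_pow] at h5
        exact (Subgroup.zpowers_le.2 h4) h5
      rw [Subgroup.mem_centralizer_iff]
      intro t ht
      have hxP₁ : x ∈ P₁ := Subgroup.mem_inf.2 ⟨hx, Subgroup.mem_centralizer_iff.2 hxR⟩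
      -- apply the core to the conjugates
      have hfin' : Finite ↥(MulAut.conj n • P₁) := by
        have h7 : (P₁ : Set ↥(D.group k)).Finite := Set.Finite.subset (Set.toFinite (P : Set ↥(D.group k))) hP₁P
        exact (h7.image (fun x => MulAut.conj n • x)).to_subtype
      have h8 := two_core hp hs h2 p hk (TTab hp) hq h5 (P := MulAut.conj n • P₁) hfin' (by
          rintro ⟨y, hy⟩
          obtain ⟨z, hz, rfl⟩ := hy
          obtain ⟨j, hj⟩ := hP₁2 ⟨z, hz⟩
          refine ⟨j, Subtype.ext ?_⟩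
          show (n * z * n⁻¹) ^ 2 ^ j = 1
          rw [conj_pow, show z ^ 2 ^ j = 1 from congrArg Subtype.val hj, mul_one, mul_inv_cancel])
        (by
          rintro _ ⟨z, hz, rfl⟩
          exact hMG z hz)
        (h := n * t * n⁻¹) (rp_conj_mem hp hk hnw (hO.le ht)) (by
          rw [conj_pow, hO.exp t ht, mul_one, mul_inv_cancel])
        (by
          rintro _ ⟨z, hz, rfl⟩
          refine ⟨t * z * t⁻¹, hnn t ht z hz, ?_⟩
          show n * (t * z * t⁻¹) * n⁻¹ = n * t * n⁻¹ * (n * z * n⁻¹) * (n * t * n⁻¹)⁻¹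
          group)
        (n * x * n⁻¹) ⟨x, hxP₁, rfl⟩
      calc t * x = n⁻¹ * ((n * t * n⁻¹) * (n * x * n⁻¹)) * n := by group
        _ = n⁻¹ * ((n * x * n⁻¹) * (n * t * n⁻¹)) * n := by rw [h8]
        _ = x * t := by group
    intro t ht x hx
    exact (Subgroup.mem_centralizer_iff.1 (key hx)) t ht

end Cfsg.Agent.H554.BS
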