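import Cfsg.Agent.H554.BS.Tab
import Cfsg.Agent.H795.Tw
import Cfsg.Agent.H553.GoodAsm

/-!
# The rows for the untwisted groups of types `F₄`, `E₇`, `E₈`, `E₆` (helper554)
-/

set_option autoImplicit false
set_option linter.unusedSectionVars false

namespace Cfsg.Agent.H554.BS

open CoxeterSystem Cfsg Cfsg.Lie Cfsg.Lie.ChevalleyDatum
open Cfsg.Agent.ChevalleyStructure Cfsg.Agent.ChevalleyStructure.Elts Cfsg.Agent.ChevalleyStructure.CoxeterGeom
  Cfsg.Agent.ChevalleyStructure.CoxeterGeomTypes Cfsg.Agent.ChevalleyStructure.NPerm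
open Cfsg.Agent.Tits.Roots Cfsg.Agent.Tits.Core Cfsg.Agent.Nodes Cfsg.Agent.Nodes.Reps Cfsg.Agent.Nodes.BNOf
  Cfsg.Agent.Nodes.RGDChev Cfsg.Agent.Nodes.Bruhat Cfsg.Agent.Nodes.NormalForm
open Cfsg.Agent.KFacts.RgdField Cfsg.Agent.KFacts.RgdChevCoord
open Cfsg.Agent.BpExc Cfsg.Agent.BpExc.TorCent Cfsg.Agent.BpExc.TorChev Cfsg.Agent.BpExc.Tow
  Cfsg.Agent.BpExc.TowChev Cfsg.Agent.BpExc.Fr Cfsg.Agent.BpExc.Pair Cfsg.Agent.BpExc.LangFr Cfsg.Agent.GpExc.Field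
  Cfsg.Agent.BpExc.TorAll
open Cfsg.Agent.H469.Exc Cfsg.Agent.H469.Exc.SigFr
open Cfsg.Agent.Nodes.RGDFoldSL
open Cfsg.Agent.ChevalleyStructure.SL2Hom (up lo mem_closure_SL2)
open Cfsg.Agent.H167.EX Cfsg.Agent.H795.LangT Cfsg.Agent.H129.TorusChar Cfsg.Agent.H129.TorusUntw
open Cfsg.Agent.H553.ExtRed Cfsg.Agent.H988.CPi
open scoped commutatorElement Pointwise

universe u v

theorem exists_eps {Q : ℕ} (h : Odd Q) : ∃ ε : ℤ, (ε = 1 ∨ ε = -1) ∧ (4 : ℤ) ∣ (Q : ℤ) - ε := by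
  obtain ⟨m, rfl⟩ := h
  rcases Nat.even_or_odd m with ⟨j, rfl⟩ | ⟨j, rfl⟩
  · exact ⟨1, Or.inl rfl, j, by push_cast; ring⟩
  · exact ⟨-1, Or.inr rfl, j + 1, by push_cast; ring⟩

theorem eps_sq {ε : ℤ} (h : ε = 1 ∨ ε = -1) : ε * ε = 1 := by rcases h with rfl | rfl <;> norm_num

theorem exists_i (k : Type u) [Field k] [IsAlgClosed k] : ∃ i : k, i * i = -1 := by
  obtain ⟨i, hi⟩ := IsAlgClosed.exists_pow_nat_eq (-1 : k) (show 0 < 2 by norm_num)
  exact ⟨i, by rw [← pow_two, hi]⟩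

theorem i_ne_zero {k : Type u} [Field k] {i : k} (hi : i * i = -1) : i ≠ 0 := by
  rintro rfl
  rw [zero_mul] at hi
  exact one_ne_zero (neg_eq_zero.1 hi.symm)

theorem i_four {k : Type u} [Field k] {i : k} (hi : i * i = -1) : i ^ 4 = 1 := by
  calc i ^ 4 = (i * i) * (i * i) := by ring
    _ = 1 := by rw [hi]; ring

variable {D : ChevalleyDatum} {l : ℕ} {M : CoxeterMatrix (Fin l)} (hp : IsType D l M)

/-- the condition on the toral 2-group -/
def H1 (hp : IsType D l M) {k : Type u} [Field k] [IsAlgClosed k] (p e : ℕ) [Fact p.Prime] [CharP k p] {F : Type u}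
    [Field F] (f0 : F →+* k) (i : k) (L0 : List ℕ) : Prop :=
  ∀ (ε : ℤ), (ε = 1 ∨ ε = -1) → (4 : ℤ) ∣ (p : ℤ) ^ e - ε → ∀ z : ↥(D.group k),
    (∀ t ∈ TT D k, (z⁻¹ * phi D k p e z) * t * (z⁻¹ * phi D k p e z)⁻¹ ∈ TT D k) →
    (∀ t ∈ TT D k, ∀ x, cX hp ((z⁻¹ * phi D k p e z) * t * (z⁻¹ * phi D k p e z)⁻¹) x = cX hp t (ε • x)) →
    ∀ s ∈ L0, ∀ hs : s < D.nroots, z * ph hp k hs (hS i) * z⁻¹ ∈ (emb hp.inList f0).range

section
variable {k : Type u} [Field k] [IsAlgClosed k] (hk : LocFin k) {p e : ℕ} [Fact p.Prime] [CharP k p] {F : Type u}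
    [Field F] [Fintype F] (f0 : F →+* k)

include hk in
/-- the condition if 2 does not divide the index of the root lattice -/
theorem h1_odd (he : 0 < e) (hq : Fintype.card F = p ^ e) {d : ℕ} {B : Fin l → Fin l → ℤ}
    (hB : InvC D l d B) (hd : d ≠ 0) (hd1 : d = 1 ∨ d.Prime) (hd2 : ¬ 2 ∣ d) {i : k} (hi : i * i = -1) (L0 : List ℕ) :
    H1 hp p e f0 i L0 := by
  intro ε hε h4 z hzT hzX s _ hs
  have := Fact.mk Nat.prime_two
  have hset := Cfsg.Agent.H795.Untw.setup_untw hp hk f0 he hq hB hd hd1 (p := 2) hd2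
  have hi0 := i_ne_zero hi
  have hmem := ph_hS_mem hp (k := k) hs hi0
  have h4' : (hS i : SL k) ^ 4 = 1 := by rw [hS_pow hi0, i_four hi, hS_one]
  have hx4 : (ph hp k hs (hS i)) ^ 4 = 1 := by rw [← map_pow, h4', map_one]
  obtain ⟨x, hx⟩ := hset.p_mem (z * ph hp k hs (hS i) * z⁻¹) (by
    have hφT : ∀ t ∈ TT D k, phi D k p e t ∈ TT D k := fun t ht => ((fr_phi hp M.toCoxeterSystem).tor t).2 ht
    have h5 : (z⁻¹ * phi D k p e z) * phi D k p e (ph hp k hs (hS i)) * (z⁻¹ * phi D k p e z)⁻¹ =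
        ph hp k hs (hS i) := by
      refine cX_inj hp (hzT _ (hφT _ hmem)) hmem fun j => ?_
      rw [hzX _ (hφT _ hmem)]
      have h6 := cX_sigma hp M.toCoxeterSystem (isFrob_phi (D := D) (k := k) (p := p) (e := e)) (fr_phi hp _) hmem
        (ε • (sr j : Fin l → ℤ))
      rw [AddEquiv.refl_apply] at h6
      rw [h6]
      have hMC := isMC_cX hp hmem
      have h0 := hMC.ne_zero (sr j)
      rw [hMC.zsmul, ← zpow_natCast, ← zpow_mul]
      have h1 : cX hp (ph hp k hs (hS i)) (sr j) ^ 4 = 1 := by rw [← cX_pow hp hmem, hx4, cX_one]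
      have h2 := zpow_of_dvd h0 h1 (a := ε * ((p ^ e : ℕ) : ℤ)) (b := 1) (by
        have : ε * ((p ^ e : ℕ) : ℤ) - 1 = ε * ((p : ℤ) ^ e - ε) := by
          rw [mul_sub, eps_sq hε]; push_cast; ring
        rw [this]
        exact Dvd.dvd.mul_left h4 ε)
      rw [h2, zpow_one]
    calc phi D k p e (z * ph hp k hs (hS i) * z⁻¹)
        = z * ((z⁻¹ * phi D k p e z) * phi D k p e (ph hp k hs (hS i)) * (z⁻¹ * phi D k p e z)⁻¹) * z⁻¹ := by
          rw [map_mul, map_mul, map_inv]; group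
      _ = z * ph hp k hs (hS i) * z⁻¹ := by rw [h5]) ⟨2, by
        rw [show (2 : ℕ) ^ 2 = 4 by norm_num, conj_pow, hx4]; group⟩
  exact ⟨x, hx⟩

end

/-- **The rows for `F₄`, `E₇`, `E₈`.** -/
theorem row_split {F : Type} [Field F] [Fintype F] {p : ℕ} (hpp : p.Prime) [hFp : CharP F p] {π : Set ℕ} (hpπ : p ∉ π)
    {S : Type v} [Group S] [Finite S] [IsSimpleGroup S] (hna : ¬ IsMulCommutative S) (hE : IsEPiGroup π S)
    (h2π : 2 ∈ π) (h3π : 3 ∉ π) (hS : Nonempty (S ≃* D.group F))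
    {d : ℕ} {B : Fin l → Fin l → ℤ} (hB : InvC D l d B) (hd : d ≠ 0) (hd1 : d = 1 ∨ d.Prime)
    (hd5 : ∀ q : ℕ, q.Prime → 5 ≤ q → ¬ q ∣ d) (h0 : 0 < D.nroots) {L0 FF : List ℕ} (hL0 : ∀ s ∈ L0, s < D.nroots)
    (hFF : ∀ s ∈ FF, s < D.nroots) (hrho : ∀ i : Fin l, rhoL D l FF (sr i) = -sr i)
    (hdata : ∀ [Fact p.Prime] [CharP (AlgebraicClosure F) p] (hk : LocFin (AlgebraicClosure F)) (e : ℕ) (_ : 0 < e)
      (_ : Fintype.card F = p ^ e) (_ : (2 : AlgebraicClosure F) ≠ 0) (i : AlgebraicClosure F) (_ : i * i = -1),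
      H1 hp p e (algebraMap F (AlgebraicClosure F)) i L0 ∧
      OneP p {x : ↥(D.group (AlgebraicClosure F)) | ∃ d ∈ L0, x = xd hp i d} (TT D (AlgebraicClosure F)) ∧
      ∃ Om : ℕ → Subgroup ↥(D.group (AlgebraicClosure F)),
        (∀ q t, t ∈ Om q ↔ t ∈ TT D (AlgebraicClosure F) ∧ t ^ q = 1) ∧
        ∀ q : ℕ, q.Prime → 5 ≤ q → q ≠ p → OmOK hp hk p q (Om q)) : Rw π S := by
  have := Fact.mk hpp
  obtain ⟨p', e, hp', hpF', hpk', he, hq, hk⟩ := exists_closure (F := F) rfl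
  have hpe : p' = p := CharP.eq F hpF' hFp
  subst hpe
  set k := AlgebraicClosure F with hkdef
  have hp2 : p' ≠ 2 := fun h => hpπ (h ▸ h2π)
  have h2 : (2 : k) ≠ 0 := by
    intro h
    have h1 : p' ∣ 2 := (CharP.cast_eq_zero_iff k p' 2).1 (by exact_mod_cast h)
    exact hp2 ((Nat.prime_dvd_prime_iff_eq hpp Nat.prime_two).1 h1)
  obtain ⟨i, hi⟩ := exists_i k
  obtain ⟨hH1, hOne, Om, hOm, hO⟩ := hdata hk e he hq h2 i hi
  have hodd : Odd (p' ^ e) := (hpp.eq_two_or_odd'.resolve_left hp2).pow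
  obtain ⟨ε, hε, h4⟩ := exists_eps hodd
  -- the list of reflections
  obtain ⟨L, hL, hLr⟩ : ∃ L : List ℕ, (∀ s ∈ L, s < D.nroots) ∧ ∀ x, rhoL D l L x = ε • x := by
    rcases hε with rfl | rfl
    · exact ⟨[], fun s hs => absurd hs List.not_mem_nil, fun x => (one_smul ℤ x).symm⟩
    · refine ⟨FF, hFF, fun x => ?_⟩
      have h1 := addHom_ext (f := rhoM D l FF) (g := AddMonoidHom.mk' (fun x => (-1 : ℤ) • x) (fun x y => smul_add _ x y))
        (fun i => by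
          rw [rhoM_apply, hrho]
          show -sr i = (-1 : ℤ) • sr i
          rw [neg_smul, one_smul]) x
      exact h1
  obtain ⟨z, hz, hiff⟩ := exists_twist_all hp hk he (isFrob_phi (D := D) (k := k) (p := p') (e := e))
    (fr_phi hp M.toCoxeterSystem) hL
  have hiff' : ∀ h ∈ TT D k, (phi D k p' e (z * h * z⁻¹) = z * h * z⁻¹ ↔
      ∀ x, cX hp h ((fun x => ε • x) x) ^ p' ^ e = cX hp h x) := by
    intro h hh
    rw [hiff h hh]
    constructor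
    · intro h1 x
      have h2 := h1 x
      rw [hLr] at h2
      exact h2
    · intro h1 x
      rw [hLr]
      exact h1 x
  let f0 := algebraMap F k
  obtain ⟨φ⟩ := hS
  let f : S →* ↥(D.group k) := (emb hp.inList f0).comp φ.toMonoidHom
  have hf : Function.Injective f := (emb_injective hp.inList f0).comp φ.injective
  obtain ⟨H, hH⟩ := hE
  right
  refine good_row hna h2π h3π hpπ hpp (TTab hp) (X := {x : ↥(D.group k) | ∃ d ∈ L0, x = xd hp i d}) ?_ ?_ hOne f hf z ?_ ?_ H hH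
  · rintro _ ⟨d, _, rfl⟩
    exact xd_mem hp (i_ne_zero hi) d
  · rintro _ ⟨d, _, rfl⟩
    exact xd_four hp hi d
  · rintro _ ⟨s, hs, rfl⟩
    have h1 := hH1 ε hε (by rw [← Nat.cast_pow]; exact h4) z (fun t ht => by
      rw [hz]; exact (cX_wL hp hk p' L hL t ht).1) (fun t ht x => by
      rw [hz, (cX_wL hp hk p' L hL t ht).2, hLr]) s hs (hL0 s hs)
    obtain ⟨y, hy⟩ := h1
    refine ⟨φ.symm y, ?_⟩
    rw [xd_lt hp (hL0 s hs), ← hy]
    show emb hp.inList f0 (φ (φ.symm y)) = _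
    rw [MulEquiv.apply_symm_apply]
  · intro N hN _ hNT hNp
    refine hR_split hp hf (σ := phi D k p' e) (Q := p' ^ e) (z := z) (R := fun x => ε • x)
      (fun x => phi_emb hp f0 hq _) hiff' (hk := hk) h2 h0 (eps_sq hε) (fun x => rfl) ?_ hOm hO hN hNT hNp
    intro q hqp h5 _ y hy hyq
    have := Fact.mk hqp
    have hset := Cfsg.Agent.H795.Untw.setup_untw hp hk f0 he hq hB hd hd1 (p := q) (hd5 q hqp h5)
    obtain ⟨x, hx⟩ := hset.p_mem y hy ⟨1, by rw [pow_one]; exact hyq⟩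
    refine ⟨φ.symm x, ?_⟩
    rw [← hx]
    show emb hp.inList f0 (φ (φ.symm x)) = _
    rw [MulEquiv.apply_symm_apply]

end Cfsg.Agent.H554.BS
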